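import Groth.Agent.Lib.Helper97.CotT2.Datum

/-!
# Constructing morphisms of data
-/

set_option autoImplicit false

namespace Groth.Agent.Lib.Helper97.CotT2

open Finsupp

noncomputable section

variable {R : Type*} [CommRing R] {σ : Type*} {r : σ → R}
variable {R' : Type*} [CommRing R'] {σ' : Type*} {r' : σ' → R'}

/-- A morphism of data from a ring map and the images of the basis vectors. -/
def DHom.ofVals (α : R →+* R') (v : σ → σ' →₀ R') (hv : ∀ s, jm r' (v s) = α (r s)) :
    DHom r r' where
  α := α
  θ :=
    { toFun := fun f => Finsupp.linearCombination R' v (Finsupp.mapRange α (map_zero _) f)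
      map_zero' := by simp
      map_add' := fun f g => by rw [Finsupp.mapRange_add (map_add _), map_add] }
  θ_smul x f := by
    change Finsupp.linearCombination R' v (Finsupp.mapRange α (map_zero _) (x • f)) =
      α x • Finsupp.linearCombination R' v (Finsupp.mapRange α (map_zero _) f)
    rw [← map_smul]
    congr 1
    ext s
    simp [Finsupp.mapRange_apply, map_mul]
  jm_θ f := by
    change jm r' (Finsupp.linearCombination R' v (Finsupp.mapRange α (map_zero _) f)) = α (jm r f)
    induction f using Finsupp.induction_linear with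
    | zero => simp
    | add f g hf hg => rw [Finsupp.mapRange_add (map_add _), map_add, map_add, hf, hg, map_add, map_add]
    | single s x =>
      rw [Finsupp.mapRange_single, Finsupp.linearCombination_single, map_smul, hv, jm_single,
        smul_eq_mul, map_mul]

@[simp] lemma DHom.ofVals_α (α : R →+* R') (v : σ → σ' →₀ R') (hv : ∀ s, jm r' (v s) = α (r s)) :
    (DHom.ofVals (r := r) α v hv).α = α := rfl

@[simp] lemma DHom.ofVals_θ_single (α : R →+* R') (v : σ → σ' →₀ R')
    (hv : ∀ s, jm r' (v s) = α (r s)) (s : σ) (x : R) :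
    (DHom.ofVals (r := r) α v hv).θ (Finsupp.single s x) = α x • v s := by
  change Finsupp.linearCombination R' v (Finsupp.mapRange α (map_zero _) (Finsupp.single s x)) = _
  rw [Finsupp.mapRange_single, Finsupp.linearCombination_single]

lemma DHom.exists_of_mem_span (α : R →+* R')
    (h : ∀ s, α (r s) ∈ Ideal.span (Set.range r')) : ∃ g : DHom r r', g.α = α := by
  have : ∀ s, ∃ c : σ' →₀ R', jm r' c = α (r s) := by
    intro s
    obtain ⟨c, hc⟩ := Finsupp.mem_span_range_iff_exists_finsupp.mp (h s)
    refine ⟨c, ?_⟩
    rw [← hc, jm, Finsupp.linearCombination_apply]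
  choose v hv using this
  exact ⟨DHom.ofVals α v hv, rfl⟩

variable {M : Type*} [AddCommGroup M] [Module R M] [Module R' M]
variable (S : Type*) [Ring S] [Module S M] [SMulCommClass R S M] [SMulCommClass R' S M]

/-- Invariance of `H2` under ring isomorphisms matching the ideals generated by the families. -/
theorem nonempty_equiv_of_ringEquiv (e : R ≃+* R')
    (h1 : ∀ s, e (r s) ∈ Ideal.span (Set.range r'))
    (h2 : ∀ s', e.symm (r' s') ∈ Ideal.span (Set.range r))
    (hc : ∀ (x : R) (m : M), e x • m = x • m) :
    Nonempty (H2 r' M S ≃ₗ[S] H2 r M S) := by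
  obtain ⟨g, hg⟩ := DHom.exists_of_mem_span (r := r) (r' := r') (e : R →+* R') h1
  obtain ⟨g', hg'⟩ := DHom.exists_of_mem_span (r := r') (r' := r) (e.symm : R' →+* R) h2
  refine ⟨DHom.equivOfInverse S g g' ?_ ?_ ?_ ?_⟩
  · intro x
    rw [hg, hg']
    exact e.symm_apply_apply x
  · intro x
    rw [hg, hg']
    exact e.apply_symm_apply x
  · intro x m
    rw [hg]
    exact hc x m
  · intro x m
    rw [hg']
    have := hc (e.symm x) m
    rw [e.apply_symm_apply] at this
    exact this.symm

/-- If all relations are trivial, `H2` vanishes. -/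
theorem subsingleton_H2_of_Q_le_F0 (r : σ → R) (M : Type*) [AddCommGroup M] [Module R M]
    (S : Type*) [Ring S] [Module S M] [SMulCommClass R S M] (h : Q r ≤ F0 r) :
    Subsingleton (H2 r M S) := by
  have : Subsingleton (Z r M S) := by
    refine ⟨fun z z' => ?_⟩
    apply Subtype.ext
    ext q
    rw [Z_apply_eq_zero z q (h q.2), Z_apply_eq_zero z' q (h q.2)]
  infer_instance

end

end Groth.Agent.Lib.Helper97.CotT2
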