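import Mathlib

/-!
# A Hom-model for the second cotangent functor of a ring with chosen generators of an ideal

For a commutative ring `R`, a family `r : σ → R` and an `R`-module `M` (on which another semiring `S`
acts compatibly), `H2 r M S` is the module of `R`-linear maps `Q → M` (`Q` the relation module of the
family `r`) killing the trivial relations, modulo the restrictions of `R`-linear maps `F → M`
(`F = σ →₀ R`).  We prove functoriality in `(R, r)` (for semilinear maps of the free modules) and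
homotopy invariance.
-/

set_option autoImplicit false

namespace Groth.Agent.Lib.Helper97.CotT2

open Finsupp

noncomputable section

section Datum

variable {R : Type*} [CommRing R] {σ : Type*} (r : σ → R)

/-- `j : F → R`, `e_s ↦ r s`. -/
def jm : (σ →₀ R) →ₗ[R] R := Finsupp.linearCombination R r

@[simp] lemma jm_single (s : σ) (x : R) : jm r (Finsupp.single s x) = x * r s := by
  simp [jm, Finsupp.linearCombination_single]

/-- The relation module. -/
def Q : Submodule R (σ →₀ R) := LinearMap.ker (jm r)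

lemma mem_Q {f : σ →₀ R} : f ∈ Q r ↔ jm r f = 0 := LinearMap.mem_ker

/-- The trivial relations. -/
def F0 : Submodule R (σ →₀ R) :=
  Submodule.span R {y | ∃ a b : σ →₀ R, y = jm r a • b - jm r b • a}

lemma triv_mem_F0 (a b : σ →₀ R) : jm r a • b - jm r b • a ∈ F0 r :=
  Submodule.subset_span ⟨a, b, rfl⟩

lemma F0_le_Q : F0 r ≤ Q r := by
  refine Submodule.span_le.mpr ?_
  rintro _ ⟨a, b, rfl⟩
  simp [Q, mul_comm]

lemma jm_eq_zero_of_mem_F0 {f : σ →₀ R} (hf : f ∈ F0 r) : jm r f = 0 := F0_le_Q r hf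

variable (M : Type*) [AddCommGroup M] [Module R M]
variable (S : Type*) [Ring S] [Module S M] [SMulCommClass R S M]

/-- Cocycles: `R`-linear maps `Q → M` vanishing on the trivial relations. -/
def Z : Submodule S (Q r →ₗ[R] M) where
  carrier := {φ | ∀ q : Q r, (q : σ →₀ R) ∈ F0 r → φ q = 0}
  add_mem' := by
    intro φ ψ hφ hψ q hq
    rw [LinearMap.add_apply, hφ q hq, hψ q hq, add_zero]
  zero_mem' := by
    intro q _
    rfl
  smul_mem' := by
    intro c φ hφ q hq
    rw [LinearMap.smul_apply, hφ q hq, smul_zero]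

variable {r M S} in
lemma Z_apply_eq_zero (z : Z r M S) (q : Q r) (hq : (q : σ →₀ R) ∈ F0 r) :
    (z : Q r →ₗ[R] M) q = 0 := z.2 q hq

/-- Coboundaries: restrictions of `R`-linear maps `F → M`. -/
def Bd : Submodule S (Z r M S) where
  carrier := {z | ∃ ψ : (σ →₀ R) →ₗ[R] M, ∀ q : Q r, (z : Q r →ₗ[R] M) q = ψ q}
  add_mem' := by
    rintro z z' ⟨ψ, hψ⟩ ⟨ψ', hψ'⟩
    refine ⟨ψ + ψ', fun q => ?_⟩
    simp [hψ q, hψ' q]
  zero_mem' := ⟨0, fun q => rfl⟩
  smul_mem' := by
    rintro c z ⟨ψ, hψ⟩
    refine ⟨c • ψ, fun q => ?_⟩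
    simp [hψ q]

/-- The Hom-model of `T²`. -/
abbrev H2 : Type _ := Z r M S ⧸ Bd r M S

end Datum

section Hom

variable {R : Type*} [CommRing R] {σ : Type*} (r : σ → R)
variable {R' : Type*} [CommRing R'] {σ' : Type*} (r' : σ' → R')

/-- A morphism of data: a ring map and a semilinear map of the free modules over it, compatible
with the maps `j`. -/
structure DHom where
  α : R →+* R'
  θ : (σ →₀ R) →+ (σ' →₀ R')
  θ_smul : ∀ (x : R) (f : σ →₀ R), θ (x • f) = α x • θ f
  jm_θ : ∀ f, jm r' (θ f) = α (jm r f)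

variable {r r'}

namespace DHom

variable (h : DHom r r')

lemma θ_mem_Q {f : σ →₀ R} (hf : f ∈ Q r) : h.θ f ∈ Q r' := by
  rw [mem_Q] at hf ⊢
  rw [h.jm_θ, hf, map_zero]

lemma θ_mem_F0 {f : σ →₀ R} (hf : f ∈ F0 r) : h.θ f ∈ F0 r' := by
  induction hf using Submodule.span_induction with
  | mem x hx =>
    obtain ⟨a, b, rfl⟩ := hx
    rw [map_sub, h.θ_smul, h.θ_smul, ← h.jm_θ, ← h.jm_θ]
    exact triv_mem_F0 r' _ _
  | zero => rw [map_zero]; exact Submodule.zero_mem _
  | add x y _ _ hx hy => rw [map_add]; exact Submodule.add_mem _ hx hy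
  | smul c x _ hx => rw [h.θ_smul]; exact Submodule.smul_mem _ _ hx

variable (M : Type*) [AddCommGroup M] [Module R M] [Module R' M]
variable (S : Type*) [Ring S] [Module S M] [SMulCommClass R S M] [SMulCommClass R' S M]

/-- Compatibility of the two module structures on `M` along `α`. -/
def Compat : Prop := ∀ (x : R) (m : M), h.α x • m = x • m

variable {M}

/-- The pull-back of a linear map on `Q'` to `Q`. -/
def pullFun (hc : h.Compat M) (φ : Q r' →ₗ[R'] M) : Q r →ₗ[R] M where
  toFun q := φ ⟨h.θ q, h.θ_mem_Q q.2⟩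
  map_add' q q' := by
    rw [← map_add]
    congr 1
    apply Subtype.ext
    simp
  map_smul' x q := by
    rw [RingHom.id_apply, ← hc x, ← map_smul]
    congr 1
    apply Subtype.ext
    simp [h.θ_smul]

@[simp] lemma pullFun_apply (hc : h.Compat M) (φ : Q r' →ₗ[R'] M) (q : Q r) :
    h.pullFun hc φ q = φ ⟨h.θ q, h.θ_mem_Q q.2⟩ := rfl

/-- The pull-back on cocycles. -/
def pullZ (hc : h.Compat M) : Z r' M S →ₗ[S] Z r M S where
  toFun z := ⟨h.pullFun hc z.1, fun q hq => by
    rw [pullFun_apply]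
    exact z.2 _ (h.θ_mem_F0 hq)⟩
  map_add' z z' := by
    apply Subtype.ext
    ext q
    rfl
  map_smul' c z := by
    apply Subtype.ext
    ext q
    rfl

@[simp] lemma pullZ_apply (hc : h.Compat M) (z : Z r' M S) (q : Q r) :
    ((h.pullZ S hc z : Z r M S) : Q r →ₗ[R] M) q = (z : Q r' →ₗ[R'] M) ⟨h.θ q, h.θ_mem_Q q.2⟩ := rfl

/-- `θ` followed by an `R'`-linear map to `M` is `R`-linear. -/
def compLin (hc : h.Compat M) (ψ : (σ' →₀ R') →ₗ[R'] M) : (σ →₀ R) →ₗ[R] M where
  toFun f := ψ (h.θ f)
  map_add' f g := by rw [map_add, map_add]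
  map_smul' x f := by rw [RingHom.id_apply, h.θ_smul, map_smul, hc]

lemma pullZ_mem_Bd (hc : h.Compat M) {z : Z r' M S} (hz : z ∈ Bd r' M S) :
    h.pullZ S hc z ∈ Bd r M S := by
  obtain ⟨ψ, hψ⟩ := hz
  refine ⟨h.compLin hc ψ, fun q => ?_⟩
  rw [pullZ_apply, hψ]
  rfl

/-- The pull-back on `H2`. -/
def pullH (hc : h.Compat M) : H2 r' M S →ₗ[S] H2 r M S :=
  Submodule.mapQ _ _ (h.pullZ S hc) (fun _ hz => h.pullZ_mem_Bd S hc hz)

@[simp] lemma pullH_mk (hc : h.Compat M) (z : Z r' M S) :
    h.pullH S hc (Submodule.Quotient.mk z) = Submodule.Quotient.mk (h.pullZ S hc z) := rfl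

end DHom

end Hom

section Lemmas

variable {R : Type*} [CommRing R] {σ : Type*} {r : σ → R}
variable {R' : Type*} [CommRing R'] {σ' : Type*} {r' : σ' → R'}
variable {R'' : Type*} [CommRing R''] {σ'' : Type*} {r'' : σ'' → R''}
variable {M : Type*} [AddCommGroup M] [Module R M] [Module R' M] [Module R'' M]
variable (S : Type*) [Ring S] [Module S M] [SMulCommClass R S M] [SMulCommClass R' S M]
  [SMulCommClass R'' S M]

/-- Composition (stated pointwise). -/
lemma DHom.pullH_comp (h₁ : DHom r r') (h₂ : DHom r' r'') (h₃ : DHom r r'')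
    (hc₁ : h₁.Compat M) (hc₂ : h₂.Compat M) (hc₃ : h₃.Compat M)
    (hcomp : ∀ f, h₃.θ f = h₂.θ (h₁.θ f)) (x : H2 r'' M S) :
    h₃.pullH S hc₃ x = h₁.pullH S hc₁ (h₂.pullH S hc₂ x) := by
  induction x using Submodule.Quotient.induction_on with
  | H z =>
    rw [DHom.pullH_mk, DHom.pullH_mk, DHom.pullH_mk]
    congr 1
    apply Subtype.ext
    ext q
    rw [DHom.pullZ_apply, DHom.pullZ_apply, DHom.pullZ_apply]
    congr 1
    apply Subtype.ext
    exact hcomp q

/-- Homotopy: two morphisms over the same ring map induce the same map on `H2`. -/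
lemma DHom.pullH_eq_of_α_eq (h h' : DHom r r') (hα : h.α = h'.α)
    (hc : h.Compat M) (hc' : h'.Compat M) (x : H2 r' M S) :
    h.pullH S hc x = h'.pullH S hc' x := by
  induction x using Submodule.Quotient.induction_on with
  | H z =>
    rw [DHom.pullH_mk, DHom.pullH_mk, ← sub_eq_zero, ← Submodule.Quotient.mk_sub,
      Submodule.Quotient.mk_eq_zero]
    have hmem : ∀ f, h.θ f - h'.θ f ∈ Q r' := by
      intro f
      rw [mem_Q, map_sub, h.jm_θ, h'.jm_θ, hα, sub_self]
    refine ⟨{ toFun := fun f => (z : Q r' →ₗ[R'] M) ⟨h.θ f - h'.θ f, hmem f⟩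
              map_add' := ?_
              map_smul' := ?_ }, ?_⟩
    · intro f g
      rw [← map_add]
      congr 1
      apply Subtype.ext
      simp only [map_add, Submodule.coe_add]
      abel
    · intro x f
      rw [RingHom.id_apply, ← hc x, ← map_smul]
      congr 1
      apply Subtype.ext
      simp only [h.θ_smul, h'.θ_smul, hα, Submodule.coe_smul, smul_sub]
    · intro q
      change ((h.pullZ S hc z : Z r M S) : Q r →ₗ[R] M) q - ((h'.pullZ S hc' z : Z r M S) : Q r →ₗ[R] M) q = _
      rw [DHom.pullZ_apply, DHom.pullZ_apply, ← map_sub]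
      rfl

/-- The identity morphism. -/
def DHom.id (r : σ → R) : DHom r r where
  α := RingHom.id R
  θ := AddMonoidHom.id _
  θ_smul _ _ := rfl
  jm_θ _ := rfl

lemma DHom.id_compat (r : σ → R) : (DHom.id r).Compat M := fun _ _ => rfl

lemma DHom.pullH_id (x : H2 r M S) : (DHom.id r).pullH S (DHom.id_compat r) x = x := by
  induction x using Submodule.Quotient.induction_on with
  | H z => rfl

/-- A morphism over the identity ring map induces the identity on `H2`. -/
lemma DHom.pullH_eq_self (h : DHom r r) (hα : h.α = RingHom.id R) (hc : h.Compat M)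
    (x : H2 r M S) : h.pullH S hc x = x := by
  rw [DHom.pullH_eq_of_α_eq S h (DHom.id r) hα hc (DHom.id_compat r), DHom.pullH_id]

/-- Two morphisms in opposite directions whose ring maps are mutually inverse induce an
isomorphism on `H2`. -/
def DHom.equivOfInverse (h : DHom r r') (h' : DHom r' r)
    (hα : ∀ x, h'.α (h.α x) = x) (hα' : ∀ x, h.α (h'.α x) = x)
    (hc : h.Compat M) (hc' : h'.Compat M) : H2 r' M S ≃ₗ[S] H2 r M S := by
  -- the composites
  let g : DHom r r :=
    { α := RingHom.id R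
      θ := h'.θ.comp h.θ
      θ_smul := fun x f => by
        change h'.θ (h.θ (x • f)) = x • h'.θ (h.θ f)
        rw [h.θ_smul, h'.θ_smul, hα]
      jm_θ := fun f => by
        change jm r (h'.θ (h.θ f)) = jm r f
        rw [h'.jm_θ, h.jm_θ, hα] }
  let g' : DHom r' r' :=
    { α := RingHom.id R'
      θ := h.θ.comp h'.θ
      θ_smul := fun x f => by
        change h.θ (h'.θ (x • f)) = x • h.θ (h'.θ f)
        rw [h'.θ_smul, h.θ_smul, hα']
      jm_θ := fun f => by
        change jm r' (h.θ (h'.θ f)) = jm r' f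
        rw [h.jm_θ, h'.jm_θ, hα'] }
  have hg : g.Compat M := fun _ _ => rfl
  have hg' : g'.Compat M := fun _ _ => rfl
  refine LinearEquiv.ofLinearMap (h.pullH S hc) (h'.pullH S hc') ?_ ?_
  · refine LinearMap.ext fun x => ?_
    have h1 := DHom.pullH_comp S h h' g hc hc' hg (fun _ => rfl) x
    rw [LinearMap.comp_apply, ← h1, LinearMap.id_apply]
    exact DHom.pullH_eq_self S g rfl hg x
  · refine LinearMap.ext fun x => ?_
    have h1 := DHom.pullH_comp S h' h g' hc' hc hg' (fun _ => rfl) x
    rw [LinearMap.comp_apply, ← h1, LinearMap.id_apply]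
    exact DHom.pullH_eq_self S g' rfl hg' x

end Lemmas

end

end Groth.Agent.Lib.Helper97.CotT2
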