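import Groth.Agent.Lib.Helper97.CotT2.Datum

/-!
# Relations among the members of a regular sequence are trivial
-/

set_option autoImplicit false

namespace Groth.Agent.Lib.Helper97.CotT2

noncomputable section

variable {A : Type*} [CommRing A]

/-- Abstract form: if each `a i` is a non-zero-divisor modulo the previous ones, all relations
among the `a i` are trivial. -/
theorem Q_le_F0_of_regular {n : ℕ} (a : Fin n → A)
    (H : ∀ (i : Fin n) (x : A), a i * x ∈ Ideal.span (a '' {j | j < i}) →
      x ∈ Ideal.span (a '' {j | j < i})) :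
    Q a ≤ F0 a := by
  have key : ∀ m : ℕ, m ≤ n → ∀ c : Fin n →₀ A, (∀ i : Fin n, m ≤ i.val → c i = 0) →
      jm a c = 0 → c ∈ F0 a := by
    intro m
    induction m with
    | zero =>
      intro _ c hc _
      have : c = 0 := by
        ext i
        exact hc i (Nat.zero_le _)
      rw [this]
      exact Submodule.zero_mem _
    | succ m ih =>
      intro hm c hc hjc
      let i₀ : Fin n := ⟨m, hm⟩
      -- the part of `c` below `i₀`
      have hsupp : c - Finsupp.single i₀ (c i₀) ∈ Finsupp.supported A A {j : Fin n | j < i₀} := by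
        rw [Finsupp.mem_supported']
        intro i hi
        have hi' : m ≤ i.val := by
          by_contra h
          exact hi (Fin.lt_def.mpr (Nat.lt_of_not_le h))
        rw [Finsupp.sub_apply]
        by_cases hii : i = i₀
        · subst hii
          rw [Finsupp.single_eq_same, sub_self]
        · have : m + 1 ≤ i.val := by
            rcases Nat.lt_or_ge m i.val with h | h
            · exact h
            · exact absurd (Fin.ext (le_antisymm h hi')) hii
          rw [hc i this, Finsupp.single_eq_of_ne hii, sub_zero]
      have h1 : a i₀ * c i₀ ∈ Ideal.span (a '' {j | j < i₀}) := by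
        have h2 : jm a (c - Finsupp.single i₀ (c i₀)) ∈ Ideal.span (a '' {j | j < i₀}) :=
          (Finsupp.mem_span_image_iff_linearCombination A).mpr ⟨_, hsupp, rfl⟩
        rw [map_sub, hjc, jm_single, zero_sub] at h2
        have := Submodule.neg_mem _ h2
        rwa [neg_neg, mul_comm] at this
      obtain ⟨d, hd, hdc⟩ := (Finsupp.mem_span_image_iff_linearCombination A).mp (H i₀ _ h1)
      have hdc' : jm a d = c i₀ := hdc
      have ht := triv_mem_F0 a d (Finsupp.single i₀ 1)
      rw [hdc', jm_single, one_mul, Finsupp.smul_single, smul_eq_mul, mul_one] at ht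
      have hd0 : ∀ i : Fin n, m ≤ i.val → d i = 0 := by
        intro i hi
        rw [Finsupp.mem_supported'] at hd
        refine hd i ?_
        intro hlt
        exact absurd (Fin.lt_def.mp hlt) (Nat.not_lt.mpr hi)
      have hc' : c - (Finsupp.single i₀ (c i₀) - a i₀ • d) ∈ F0 a := by
        refine ih (Nat.le_of_succ_le hm) _ ?_ ?_
        · intro i hi
          rw [Finsupp.sub_apply, Finsupp.sub_apply, Finsupp.smul_apply, hd0 i hi, smul_zero, sub_zero]
          have := (Finsupp.mem_supported' _ _).mp hsupp i (by
            intro hlt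
            exact absurd (Fin.lt_def.mp hlt) (Nat.not_lt.mpr hi))
          rwa [Finsupp.sub_apply] at this
        · rw [map_sub, hjc, jm_eq_zero_of_mem_F0 a ht, sub_zero]
      have : c = (c - (Finsupp.single i₀ (c i₀) - a i₀ • d)) + (Finsupp.single i₀ (c i₀) - a i₀ • d) := by
        abel
      rw [this]
      exact Submodule.add_mem _ hc' ht
  intro c hc
  exact key n le_rfl c (fun i hi => absurd i.isLt (Nat.not_lt.mpr hi)) ((mem_Q a).mp hc)

lemma ideal_smul_top (I : Ideal A) : (I • (⊤ : Submodule A A)) = I :=
  Ideal.mul_top I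

/-- Relations among the members of a weakly regular sequence are trivial. -/
theorem Q_le_F0_of_isWeaklyRegular (rs : List A) (h : RingTheory.Sequence.IsWeaklyRegular A rs) :
    Q (fun i : Fin rs.length => rs.get i) ≤ F0 (fun i : Fin rs.length => rs.get i) := by
  refine Q_le_F0_of_regular _ ?_
  intro i x hx
  have hset : (fun i : Fin rs.length => rs.get i) '' {j | j < i} = {r | r ∈ rs.take i} := by
    ext r
    simp only [Set.mem_image, Set.mem_ofPred_eq, List.mem_take_iff_getElem]
    constructor
    · rintro ⟨j, hj, rfl⟩
      exact ⟨j.val, lt_min (Fin.lt_def.mp hj) j.isLt, rfl⟩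
    · rintro ⟨j, hj, rfl⟩
      have hj' := lt_min_iff.mp hj
      exact ⟨⟨j, hj'.2⟩, Fin.lt_def.mpr hj'.1, rfl⟩
  rw [hset] at hx ⊢
  have hreg := h.regular_mod_prev i.val i.isLt
  have h0 : (Submodule.Quotient.mk x : A ⧸ (Ideal.ofList (rs.take i) • ⊤ : Submodule A A)) = 0 := by
    apply hreg
    change rs[i.val] • Submodule.Quotient.mk x = rs[i.val] • (0 : A ⧸ _)
    rw [smul_zero, ← Submodule.Quotient.mk_smul, Submodule.Quotient.mk_eq_zero, ideal_smul_top]
    exact hx
  rw [Submodule.Quotient.mk_eq_zero, ideal_smul_top] at h0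
  exact h0

end

end Groth.Agent.Lib.Helper97.CotT2
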