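import Groth.Prelude.Def_CotT
import Groth.Agent.Lib.Helper97.CotT2.Datum

/-!
# The prelude's `CotT.T2` of a presentation is the Hom-model `H2` of its ring and relations
-/

set_option autoImplicit false

namespace Groth.Agent.Lib.Helper97.CotT2

open TensorProduct

noncomputable section

variable {A : Type*} {B : Type*} {ι σ : Type*} [CommRing A] [CommRing B] [Algebra A B]
variable (P : Algebra.Presentation A B ι σ)
variable (M : Type*) [AddCommGroup M] [Module B M] [Module P.toExtension.Ring M]
  [IsScalarTower P.toExtension.Ring B M]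

lemma jm_rel : jm (CotT.rel P) = CotT.jmap P := rfl
lemma Q_rel : Q (CotT.rel P) = CotT.relKer P := rfl
lemma F0_rel : F0 (CotT.rel P) = CotT.trivRel P := rfl

/-- The class of `1 ⊗ q` in `L₂`. -/
def cls (q : CotT.relKer P) : CotT.L2 P := Submodule.Quotient.mk ((1 : B) ⊗ₜ q)

lemma cls_add (q q' : CotT.relKer P) : cls P (q + q') = cls P q + cls P q' := by
  rw [cls, TensorProduct.tmul_add, Submodule.Quotient.mk_add]; rfl

lemma cls_smul (x : P.toExtension.Ring) (q : CotT.relKer P) :
    cls P (x • q) = algebraMap P.toExtension.Ring B x • cls P q := by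
  rw [cls, cls, ← Submodule.Quotient.mk_smul, TensorProduct.smul_tmul', ← TensorProduct.smul_tmul,
    Algebra.smul_def, smul_eq_mul, mul_one]

lemma cls_eq_zero (q : CotT.relKer P) (hq : (q : CotT.relMod P) ∈ CotT.trivRel P) : cls P q = 0 := by
  rw [cls, Submodule.Quotient.mk_eq_zero]
  exact ⟨(1 : B) ⊗ₜ ⟨q, hq⟩, rfl⟩

/-- Evaluate a `B`-linear map on `L₂` on the classes `1 ⊗ q`. -/
def toZfun (g : CotT.L2 P →ₗ[B] M) : Q (CotT.rel P) →ₗ[P.toExtension.Ring] M where
  toFun q := g (cls P q)
  map_add' q q' := (congrArg g (cls_add P q q')).trans (map_add g _ _)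
  map_smul' x q := by
    refine (congrArg g (cls_smul P x q)).trans ?_
    rw [map_smul, RingHom.id_apply, algebraMap_smul]

/-- `Hom_B(L₂, M) → Z`. -/
def toZ : (CotT.L2 P →ₗ[B] M) →ₗ[B] Z (CotT.rel P) M B where
  toFun g := ⟨toZfun P M g, fun q hq => by
    change g (cls P q) = 0
    rw [cls_eq_zero P q hq, map_zero]⟩
  map_add' g g' := by
    apply Subtype.ext
    ext q
    rfl
  map_smul' b g := by
    apply Subtype.ext
    ext q
    rfl

@[simp] lemma toZ_apply (g : CotT.L2 P →ₗ[B] M) (q : Q (CotT.rel P)) :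
    ((toZ P M g : Z (CotT.rel P) M B) : Q (CotT.rel P) →ₗ[P.toExtension.Ring] M) q = g (cls P q) := rfl

lemma toZ_injective : Function.Injective (toZ P M) := by
  rw [← LinearMap.ker_eq_bot, LinearMap.ker_eq_bot']
  intro g hg
  refine LinearMap.ext fun x => ?_
  rw [LinearMap.zero_apply]
  induction x using Submodule.Quotient.induction_on with
  | H t =>
    induction t using TensorProduct.induction_on with
    | zero => exact map_zero g
    | add x y hx hy =>
      rw [Submodule.Quotient.mk_add, map_add, hx, hy, add_zero]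
    | tmul b q =>
      have h1 : g (cls P q) = 0 := by
        have := congrArg (fun z : Z (CotT.rel P) M B => (z : Q (CotT.rel P) →ₗ[P.toExtension.Ring] M) q) hg
        exact this
      have h2 : (Submodule.Quotient.mk (b ⊗ₜ[P.toExtension.Ring] q) : CotT.L2 P) = b • cls P q := by
        rw [cls, ← Submodule.Quotient.mk_smul, TensorProduct.smul_tmul', smul_eq_mul, mul_one]
      rw [h2, map_smul, h1, smul_zero]

/-- The `B`-linear map on `L₂` attached to a cocycle. -/
def ofZ (z : Z (CotT.rel P) M B) : CotT.L2 P →ₗ[B] M :=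
  Submodule.liftQ _ (LinearMap.liftBaseChange B (z : Q (CotT.rel P) →ₗ[P.toExtension.Ring] M)) (by
    rintro _ ⟨y, rfl⟩
    rw [LinearMap.mem_ker]
    induction y using TensorProduct.induction_on with
    | zero => simp
    | add x y hx hy => rw [map_add, map_add, hx, hy, add_zero]
    | tmul b k =>
      rw [LinearMap.baseChange_tmul]
      have : (z : Q (CotT.rel P) →ₗ[P.toExtension.Ring] M) ((CotT.trivRelKer P).subtype k) = 0 :=
        z.2 _ k.2
      refine (LinearMap.liftBaseChange_tmul B _ b _).trans ?_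
      exact (congrArg (fun m => b • m) this).trans (smul_zero b))

lemma ofZ_cls (z : Z (CotT.rel P) M B) (q : Q (CotT.rel P)) :
    ofZ P M z (cls P q) = (z : Q (CotT.rel P) →ₗ[P.toExtension.Ring] M) q := by
  rw [ofZ, cls, Submodule.liftQ_apply]
  exact (LinearMap.liftBaseChange_tmul B _ (1 : B) _).trans (one_smul B _)

lemma toZ_surjective : Function.Surjective (toZ P M) := by
  intro z
  refine ⟨ofZ P M z, ?_⟩
  apply Subtype.ext
  ext q
  rw [toZ_apply, ofZ_cls]

/-- `Hom_B(L₂, M) ≃ Z`. -/
def toZEquiv : (CotT.L2 P →ₗ[B] M) ≃ₗ[B] Z (CotT.rel P) M B :=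
  LinearEquiv.ofBijective (toZ P M) ⟨toZ_injective P M, toZ_surjective P M⟩

lemma map_range_d2Star :
    (LinearMap.range (CotT.d2Star P M)).map (toZEquiv P M : _ →ₗ[B] _) = Bd (CotT.rel P) M B := by
  apply le_antisymm
  · rintro _ ⟨_, ⟨ψ, rfl⟩, rfl⟩
    refine ⟨{ toFun := fun f => ψ ((1 : B) ⊗ₜ f)
              map_add' := fun f g => by rw [TensorProduct.tmul_add, map_add]
              map_smul' := fun x f => by
                rw [RingHom.id_apply, TensorProduct.tmul_smul, ← algebraMap_smul B x,
                  map_smul, algebraMap_smul] }, fun q => ?_⟩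
    change (CotT.d2Star P M ψ) (cls P q) = ψ ((1 : B) ⊗ₜ (q : CotT.relMod P))
    rw [CotT.d2Star_apply, LinearMap.comp_apply, cls, CotT.d2_mk_tmul]
  · rintro z ⟨ψ', hψ'⟩
    refine ⟨CotT.d2Star P M (LinearMap.liftBaseChange B ψ'), ⟨_, rfl⟩, ?_⟩
    apply Subtype.ext
    ext q
    change (CotT.d2Star P M (LinearMap.liftBaseChange B ψ')) (cls P q) = _
    rw [CotT.d2Star_apply, LinearMap.comp_apply, cls, CotT.d2_mk_tmul, LinearMap.liftBaseChange_tmul,
      one_smul, hψ']

/-- **Bridge**: the prelude's `T²` of a presentation is the Hom-model for its ring and relations. -/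
def bridge : CotT.T2 P M ≃ₗ[B] H2 (CotT.rel P) M B :=
  Submodule.Quotient.equiv _ _ (toZEquiv P M) (map_range_d2Star P M)

end

end Groth.Agent.Lib.Helper97.CotT2
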