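import Groth.Agent.Lib.Helper97.CotT2.Assemble
import Groth.Agent.Lib.Helper97.CotT2.Bridge

/-!
# `CotT.T2` does not depend on the presentation
-/

set_option autoImplicit false

namespace Groth.Agent.Lib.Helper97.CotT2

open MvPolynomial

noncomputable section

variable {A B : Type*} [CommRing A] [CommRing B] [Algebra A B] {ι ι' σ σ' : Type*}

lemma ker_eq_span_rel (P : Algebra.Presentation A B ι σ) :
    RingHom.ker (algebraMap P.toExtension.Ring B) = Ideal.span (Set.range (CotT.rel P)) :=
  P.span_range_relation_eq_ker.symm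

theorem nonempty_T2_equiv (P : Algebra.Presentation A B ι σ) (P' : Algebra.Presentation A B ι' σ')
    (M : Type*) [AddCommGroup M] [Module B M] :
    Nonempty (CotT.T2 P M ≃ₗ[B] CotT.T2 P' M) := by
  let a1 : Algebra (MvPolynomial ι A) B := P.toExtension.algebra₂
  have s1 : @IsScalarTower A (MvPolynomial ι A) B _ a1.toSMul _ :=
    inferInstanceAs (IsScalarTower A P.toExtension.Ring B)
  let a2 : Algebra (MvPolynomial ι' A) B := P'.toExtension.algebra₂
  have s2 : @IsScalarTower A (MvPolynomial ι' A) B _ a2.toSMul _ :=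
    inferInstanceAs (IsScalarTower A P'.toExtension.Ring B)
  let i1 : Module (MvPolynomial ι A) M := Module.compHom M (@algebraMap (MvPolynomial ι A) B _ _ a1)
  have i2 : @IsScalarTower (MvPolynomial ι A) B M a1.toSMul _ i1.toSMul :=
    letI := a1; letI := i1; IsScalarTower.of_algebraMap_smul fun _ _ => rfl
  let i3 : Module (MvPolynomial ι' A) M := Module.compHom M (@algebraMap (MvPolynomial ι' A) B _ _ a2)
  have i4 : @IsScalarTower (MvPolynomial ι' A) B M a2.toSMul _ i3.toSMul :=
    letI := a2; letI := i3; IsScalarTower.of_algebraMap_smul fun _ _ => rfl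
  obtain ⟨e⟩ := @nonempty_H2_equiv_mvPolynomial A B _ _ _ ι ι' σ σ' a1 s1 a2 s2
      M _ _ i1 i2 i3 i4 P.algebraMap_surjective P'.algebraMap_surjective
      (CotT.rel P) (CotT.rel P') (ker_eq_span_rel P) (ker_eq_span_rel P')
  exact ⟨(@bridge A B ι σ _ _ _ P M _ _ i1 i2).trans (e.trans (@bridge A B ι' σ' _ _ _ P' M _ _ i3 i4).symm)⟩

end

end Groth.Agent.Lib.Helper97.CotT2
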