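import Mathlib

/-!
# Relations among the variables of a polynomial ring are trivial
-/

set_option autoImplicit false

namespace Groth.Agent.Lib.Helper97.CotT2

open MvPolynomial

noncomputable section

open Classical in
/-- Substituting `0` for the variable `k₀`. -/
def subst0 {R : Type*} [CommRing R] {κ : Type*} (k₀ : κ) : MvPolynomial κ R →ₐ[R] MvPolynomial κ R :=
  aeval (fun k => if k = k₀ then 0 else X k)

section

variable {R : Type*} [CommRing R] {κ : Type*}

@[simp] lemma subst0_X_self (k₀ : κ) : subst0 (R := R) k₀ (X k₀) = 0 := by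
  simp [subst0]

lemma subst0_X_ne {k k₀ : κ} (h : k ≠ k₀) : subst0 (R := R) k₀ (X k) = X k := by
  simp [subst0, h]

lemma sub_subst0_mem (k₀ : κ) (p : MvPolynomial κ R) :
    p - subst0 k₀ p ∈ Ideal.span {(X k₀ : MvPolynomial κ R)} := by
  set I : Ideal (MvPolynomial κ R) := Ideal.span {(X k₀ : MvPolynomial κ R)} with hI
  have h0 : Ideal.Quotient.mkₐ R I (X k₀) = 0 := by
    rw [Ideal.Quotient.mkₐ_eq_mk]
    exact Ideal.Quotient.eq_zero_iff_mem.mpr (Ideal.subset_span (Set.mem_singleton _))
  have h : (Ideal.Quotient.mkₐ R I).comp (subst0 (R := R) k₀) = Ideal.Quotient.mkₐ R I := by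
    refine MvPolynomial.algHom_ext (fun k => ?_)
    by_cases hk : k = k₀
    · subst hk
      rw [AlgHom.comp_apply, subst0_X_self, map_zero, h0]
    · rw [AlgHom.comp_apply, subst0_X_ne hk]
  have h2 := AlgHom.congr_fun h p
  rw [AlgHom.comp_apply] at h2
  have h3 : Ideal.Quotient.mkₐ R I (p - subst0 k₀ p) = 0 := by
    rw [map_sub, sub_eq_zero]
    exact h2.symm
  rw [Ideal.Quotient.mkₐ_eq_mk] at h3
  exact Ideal.Quotient.eq_zero_iff_mem.mp h3

lemma X_mul_eq_zero {k : κ} {c : MvPolynomial κ R} (h : c * X k = 0) : c = 0 := by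
  ext m
  have := congrArg (coeff (m + Finsupp.single k 1)) h
  rwa [coeff_mul_X, coeff_zero] at this

/-- `Σ w_k X_k`. -/
def jX : (κ →₀ MvPolynomial κ R) →ₗ[MvPolynomial κ R] MvPolynomial κ R :=
  Finsupp.linearCombination (MvPolynomial κ R) (X : κ → MvPolynomial κ R)

@[simp] lemma jX_single (k : κ) (p : MvPolynomial κ R) : jX (Finsupp.single k p) = p * X k := by
  simp [jX, Finsupp.linearCombination_single]

/-- The Koszul relations among the variables. -/
def TX : Submodule (MvPolynomial κ R) (κ →₀ MvPolynomial κ R) :=
  Submodule.span _ (Set.range fun p : κ × κ =>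
    Finsupp.single p.2 (X p.1 : MvPolynomial κ R) - Finsupp.single p.1 (X p.2))

lemma TX_le_ker : (TX : Submodule _ (κ →₀ MvPolynomial κ R)) ≤ LinearMap.ker (jX (R := R)) := by
  refine Submodule.span_le.mpr ?_
  rintro _ ⟨⟨k, l⟩, rfl⟩
  simp [mul_comm]

open Classical in
/-- Apply `subst0 k₀` to all coefficients and erase the `k₀`-coefficient. -/
def red (k₀ : κ) (v : κ →₀ MvPolynomial κ R) : κ →₀ MvPolynomial κ R :=
  (Finsupp.mapRange (subst0 (R := R) k₀) (map_zero _) v).erase k₀

open Classical in
lemma red_add (k₀ : κ) (v w : κ →₀ MvPolynomial κ R) : red k₀ (v + w) = red k₀ v + red k₀ w := by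
  rw [red, red, red, Finsupp.mapRange_add (map_add _), Finsupp.erase_add]

open Classical in
lemma red_single_self (k₀ : κ) (p : MvPolynomial κ R) : red k₀ (Finsupp.single k₀ p) = 0 := by
  rw [red, Finsupp.mapRange_single, Finsupp.erase_single]

open Classical in
lemma red_single_ne {k k₀ : κ} (h : k ≠ k₀) (p : MvPolynomial κ R) :
    red k₀ (Finsupp.single k p) = Finsupp.single k (subst0 k₀ p) := by
  rw [red, Finsupp.mapRange_single, Finsupp.erase_single_ne (Ne.symm h)]

lemma red_zero (k₀ : κ) : red (R := R) k₀ 0 = 0 := by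
  simp [red]

lemma jX_red (k₀ : κ) (v : κ →₀ MvPolynomial κ R) : jX (red k₀ v) = subst0 k₀ (jX v) := by
  induction v using Finsupp.induction_linear with
  | zero => simp [red_zero]
  | add f g hf hg => rw [red_add, map_add, map_add, hf, hg, map_add]
  | single k p =>
    by_cases hk : k = k₀
    · subst hk
      rw [red_single_self, map_zero, jX_single, map_mul, subst0_X_self, mul_zero]
    · rw [red_single_ne hk, jX_single, jX_single, map_mul, subst0_X_ne hk]

open Classical in
lemma support_red (k₀ : κ) (v : κ →₀ MvPolynomial κ R) :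
    (red k₀ v).support ⊆ v.support.erase k₀ := by
  rw [red, Finsupp.support_erase]
  exact Finset.erase_subset_erase _ Finsupp.support_mapRange

lemma sub_red_mem (k₀ : κ) (v : κ →₀ MvPolynomial κ R) :
    v - red k₀ v ∈ (TX : Submodule _ (κ →₀ MvPolynomial κ R)) ⊔
      Submodule.span _ {Finsupp.single k₀ (1 : MvPolynomial κ R)} := by
  induction v using Finsupp.induction_linear with
  | zero => simp [red_zero]
  | add f g hf hg =>
    rw [red_add, add_sub_add_comm]
    exact Submodule.add_mem _ hf hg
  | single k p =>
    by_cases hk : k = k₀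
    · subst hk
      rw [red_single_self, sub_zero]
      refine Submodule.mem_sup_right ?_
      rw [Submodule.mem_span_singleton]
      exact ⟨p, by simp⟩
    · rw [red_single_ne hk, ← Finsupp.single_sub]
      obtain ⟨u, hu⟩ := Ideal.mem_span_singleton'.mp (sub_subst0_mem k₀ p)
      rw [← hu]
      have : Finsupp.single k (u * X k₀) =
          u • (Finsupp.single k (X k₀ : MvPolynomial κ R) - Finsupp.single k₀ (X k)) +
            (u * X k) • Finsupp.single k₀ (1 : MvPolynomial κ R) := by
        rw [smul_sub, Finsupp.smul_single, Finsupp.smul_single, Finsupp.smul_single, smul_eq_mul,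
          smul_eq_mul, smul_eq_mul, mul_one]
        abel
      rw [this]
      refine Submodule.add_mem _ (Submodule.mem_sup_left ?_) (Submodule.mem_sup_right ?_)
      · exact Submodule.smul_mem _ _ (Submodule.subset_span ⟨(k₀, k), rfl⟩)
      · exact Submodule.smul_mem _ _ (Submodule.subset_span rfl)

open Classical in
/-- **Koszul**: every relation among the variables is a combination of the trivial ones. -/
theorem ker_jX_le_TX : LinearMap.ker (jX (R := R) (κ := κ)) ≤ TX := by
  have key : ∀ (T : Finset κ) (w : κ →₀ MvPolynomial κ R), w.support ⊆ T → jX w = 0 → w ∈ TX := by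
    intro T
    induction T using Finset.induction_on with
    | empty =>
      intro w hw _
      have : w = 0 := by
        rw [← Finsupp.support_eq_empty]
        exact Finset.subset_empty.mp hw
      rw [this]
      exact Submodule.zero_mem _
    | insert k₀ T' hk₀ ih =>
      intro w hw hjw
      have h1 : red k₀ w ∈ (TX : Submodule _ (κ →₀ MvPolynomial κ R)) := by
        refine ih _ ?_ ?_
        · refine (support_red k₀ w).trans ?_
          intro k hk
          rw [Finset.mem_erase] at hk
          have := hw hk.2
          rw [Finset.mem_insert] at this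
          exact this.resolve_left hk.1
        · rw [jX_red, hjw, map_zero]
      obtain ⟨t, ht, y, hy, hty⟩ := Submodule.mem_sup.mp (sub_red_mem k₀ w)
      obtain ⟨c, rfl⟩ := Submodule.mem_span_singleton.mp hy
      have h2 : jX (w - red k₀ w) = 0 := by
        rw [map_sub, hjw, TX_le_ker h1, sub_zero]
      rw [← hty, map_add, TX_le_ker ht, zero_add, map_smul, jX_single, one_mul, smul_eq_mul] at h2
      have hc : c = 0 := X_mul_eq_zero h2
      rw [hc, zero_smul, add_zero] at hty
      have : w = red k₀ w + t := by rw [hty]; abel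
      rw [this]
      exact Submodule.add_mem _ h1 ht
  intro w hw
  exact key w.support w subset_rfl hw

end

end

end Groth.Agent.Lib.Helper97.CotT2
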