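import Groth.Agent.Lib.Helper97.CotT2.Constr
import Groth.Agent.Lib.Helper97.CotT2.KoszulVars

/-!
# Adding polynomial variables (sent to zero) does not change `H2`
-/

set_option autoImplicit false

namespace Groth.Agent.Lib.Helper97.CotT2

open MvPolynomial

noncomputable section

variable {R : Type*} [CommRing R] {σ : Type*} (r : σ → R) (κ : Type*)

/-- The extended family on `R[κ]`: the old relations and the new variables. -/
def rExt : σ ⊕ κ → MvPolynomial κ R := Sum.elim (fun s => C (r s)) X

@[simp] lemma rExt_inl (s : σ) : rExt r κ (Sum.inl s) = C (r s) := rfl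
@[simp] lemma rExt_inr (k : κ) : rExt r κ (Sum.inr k) = X k := rfl

/-- The inclusion `R → R[κ]`. -/
def hIn : DHom r (rExt r κ) :=
  DHom.ofVals C (fun s => Finsupp.single (Sum.inl s) 1) (fun s => by simp)

/-- The retraction `R[κ] → R`, variables to zero. -/
def hOut : DHom (rExt r κ) r :=
  DHom.ofVals constantCoeff (Sum.elim (fun s => Finsupp.single s 1) (fun _ => 0)) (fun s => by
    rcases s with s | k <;> simp)

@[simp] lemma hIn_θ_single (s : σ) (x : R) :
    (hIn r κ).θ (Finsupp.single s x) = Finsupp.single (Sum.inl s) (C x) := by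
  rw [hIn, DHom.ofVals_θ_single, Finsupp.smul_single, smul_eq_mul, mul_one]

@[simp] lemma hOut_θ_single_inl (s : σ) (p : MvPolynomial κ R) :
    (hOut r κ).θ (Finsupp.single (Sum.inl s) p) = Finsupp.single s (constantCoeff p) := by
  rw [hOut, DHom.ofVals_θ_single, Sum.elim_inl, Finsupp.smul_single, smul_eq_mul, mul_one]

@[simp] lemma hOut_θ_single_inr (k : κ) (p : MvPolynomial κ R) :
    (hOut r κ).θ (Finsupp.single (Sum.inr k) p) = 0 := by
  rw [hOut, DHom.ofVals_θ_single, Sum.elim_inr, smul_zero]

lemma hOut_hIn (f : σ →₀ R) : (hOut r κ).θ ((hIn r κ).θ f) = f := by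
  induction f using Finsupp.induction_linear with
  | zero => simp
  | add f g hf hg => rw [map_add, map_add, hf, hg]
  | single s x => rw [hIn_θ_single, hOut_θ_single_inl, constantCoeff_C]

lemma sub_C_constantCoeff_mem (p : MvPolynomial κ R) :
    p - C (constantCoeff p) ∈ Ideal.span (Set.range (X : κ → MvPolynomial κ R)) := by
  rw [← Set.image_univ, mem_ideal_span_X_image]
  intro m hm
  have hm0 : m ≠ 0 := by
    rintro rfl
    rw [mem_support_iff, coeff_sub, coeff_zero_C, constantCoeff_eq, sub_self] at hm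
    exact hm rfl
  obtain ⟨i, hi⟩ := Finsupp.ne_iff.mp hm0
  exact ⟨i, Set.mem_univ _, by simpa using hi⟩

/-- The embedding of the free module on the new variables. -/
def inrMap : (κ →₀ MvPolynomial κ R) →ₗ[MvPolynomial κ R] ((σ ⊕ κ) →₀ MvPolynomial κ R) :=
  Finsupp.lmapDomain (MvPolynomial κ R) (MvPolynomial κ R) Sum.inr

@[simp] lemma inrMap_single (k : κ) (p : MvPolynomial κ R) :
    inrMap (σ := σ) κ (Finsupp.single k p) = Finsupp.single (Sum.inr k) p := by
  simp [inrMap, Finsupp.lmapDomain_apply, Finsupp.mapDomain_single]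

lemma jm_inrMap (w : κ →₀ MvPolynomial κ R) : jm (rExt r κ) (inrMap κ w) = jX w := by
  induction w using Finsupp.induction_linear with
  | zero => simp
  | add f g hf hg => rw [map_add, map_add, hf, hg, map_add]
  | single k p => rw [inrMap_single, jm_single, jX_single, rExt_inr]

lemma inrMap_mem_F0 {w : κ →₀ MvPolynomial κ R} (hw : jX w = 0) :
    inrMap κ w ∈ F0 (rExt r κ) := by
  have h1 : w ∈ (TX : Submodule _ (κ →₀ MvPolynomial κ R)) := ker_jX_le_TX hw
  have h2 : (TX : Submodule _ (κ →₀ MvPolynomial κ R)) ≤ (F0 (rExt r κ)).comap (inrMap κ) := by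
    refine Submodule.span_le.mpr ?_
    rintro _ ⟨⟨k, l⟩, rfl⟩
    rw [SetLike.mem_coe, Submodule.mem_comap, map_sub, inrMap_single, inrMap_single]
    have := triv_mem_F0 (rExt r κ) (Finsupp.single (Sum.inr k) 1) (Finsupp.single (Sum.inr l) 1)
    rw [jm_single, jm_single, one_mul, one_mul, rExt_inr, rExt_inr, Finsupp.smul_single,
      Finsupp.smul_single, smul_eq_mul, smul_eq_mul, mul_one, mul_one] at this
    exact this
  exact h2 h1

lemma sub_mem_sup (y : (σ ⊕ κ) →₀ MvPolynomial κ R) :
    y - (hIn r κ).θ ((hOut r κ).θ y) ∈ F0 (rExt r κ) ⊔ LinearMap.range (inrMap (σ := σ) κ) := by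
  induction y using Finsupp.induction_linear with
  | zero => simp
  | add f g hf hg =>
    rw [map_add, map_add, add_sub_add_comm]
    exact Submodule.add_mem _ hf hg
  | single s p =>
    rcases s with s | k
    · rw [hOut_θ_single_inl, hIn_θ_single, ← Finsupp.single_sub]
      have hle : Ideal.span (Set.range (X : κ → MvPolynomial κ R)) ≤
          (F0 (rExt r κ) ⊔ LinearMap.range (inrMap (σ := σ) κ)).comap
            (Finsupp.lsingle (Sum.inl s)) := by
        refine Submodule.span_le.mpr ?_
        rintro _ ⟨k, rfl⟩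
        rw [SetLike.mem_coe, Submodule.mem_comap, Finsupp.lsingle_apply]
        have h1 := triv_mem_F0 (rExt r κ) (Finsupp.single (Sum.inr k) 1) (Finsupp.single (Sum.inl s) 1)
        rw [jm_single, jm_single, one_mul, one_mul, rExt_inr, rExt_inl, Finsupp.smul_single,
          Finsupp.smul_single, smul_eq_mul, smul_eq_mul, mul_one, mul_one] at h1
        have h2 : Finsupp.single (Sum.inl s) (X k : MvPolynomial κ R) =
            (Finsupp.single (Sum.inl s) (X k : MvPolynomial κ R) -
              Finsupp.single (Sum.inr k) (C (r s))) + inrMap κ (Finsupp.single k (C (r s))) := by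
          rw [inrMap_single]; abel
        rw [h2]
        exact Submodule.add_mem _ (Submodule.mem_sup_left h1)
          (Submodule.mem_sup_right (LinearMap.mem_range_self _ _))
      exact hle (sub_C_constantCoeff_mem κ p)
    · rw [hOut_θ_single_inr, map_zero, sub_zero]
      refine Submodule.mem_sup_right ⟨Finsupp.single k p, ?_⟩
      rw [inrMap_single]

/-- The structure lemma: modulo trivial relations every relation comes from `R`. -/
lemma sub_mem_F0 {y : (σ ⊕ κ) →₀ MvPolynomial κ R} (hy : y ∈ Q (rExt r κ)) :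
    y - (hIn r κ).θ ((hOut r κ).θ y) ∈ F0 (rExt r κ) := by
  obtain ⟨t, ht, z, ⟨w, rfl⟩, htz⟩ := Submodule.mem_sup.mp (sub_mem_sup r κ y)
  have h1 : jm (rExt r κ) (y - (hIn r κ).θ ((hOut r κ).θ y)) = 0 := by
    rw [map_sub, (hIn r κ).jm_θ, (hOut r κ).jm_θ, (mem_Q _).mp hy, map_zero, map_zero, sub_zero]
  rw [← htz, map_add, jm_eq_zero_of_mem_F0 _ ht, zero_add, jm_inrMap] at h1
  rw [← htz]
  exact Submodule.add_mem _ ht (inrMap_mem_F0 r κ h1)

variable {M : Type*} [AddCommGroup M] [Module R M] [Module (MvPolynomial κ R) M]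
variable (S : Type*) [Ring S] [Module S M] [SMulCommClass R S M]
  [SMulCommClass (MvPolynomial κ R) S M]

/-- Adding variables that act as zero on `M` does not change `H2`. -/
def addVarsEquiv (hc1 : ∀ (x : R) (m : M), (C x : MvPolynomial κ R) • m = x • m)
    (hc2 : ∀ (p : MvPolynomial κ R) (m : M), constantCoeff p • m = p • m) :
    H2 (rExt r κ) M S ≃ₗ[S] H2 r M S := by
  have hcIn : (hIn r κ).Compat M := hc1
  have hcOut : (hOut r κ).Compat M := hc2
  refine LinearEquiv.ofLinearMap ((hIn r κ).pullH S hcIn) ((hOut r κ).pullH S hcOut) ?_ ?_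
  · refine LinearMap.ext fun x => ?_
    rw [LinearMap.comp_apply, LinearMap.id_apply,
      ← DHom.pullH_comp S (hIn r κ) (hOut r κ) (DHom.id r) hcIn hcOut (DHom.id_compat r)
        (fun f => (hOut_hIn r κ f).symm) x]
    exact DHom.pullH_id S x
  · refine LinearMap.ext fun x => ?_
    rw [LinearMap.comp_apply, LinearMap.id_apply]
    induction x using Submodule.Quotient.induction_on with
    | H z =>
      rw [DHom.pullH_mk, DHom.pullH_mk]
      congr 1
      apply Subtype.ext
      ext q
      rw [DHom.pullZ_apply, DHom.pullZ_apply, ← sub_eq_zero, ← map_sub]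
      refine Z_apply_eq_zero z _ ?_
      have := sub_mem_F0 r κ q.2
      rw [← neg_sub] at this
      have h2 := Submodule.neg_mem _ this
      rw [neg_neg] at h2
      exact h2

end

end Groth.Agent.Lib.Helper97.CotT2
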