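import Groth.Agent.Lib.Helper97.CotT2.AddVars

/-!
# Abstract independence of `H2` of the chosen ring
-/

set_option autoImplicit false

namespace Groth.Agent.Lib.Helper97.CotT2

open MvPolynomial

noncomputable section

section Ker

variable {R : Type*} [CommRing R] {σ : Type*} (r : σ → R) (κ : Type*)
variable {B : Type*} [CommRing B] (ρ : R →+* B)

lemma mem_span_rExt_of_mem_ker (hr : RingHom.ker ρ ≤ Ideal.span (Set.range r))
    {p : MvPolynomial κ R} (hp : ρ (constantCoeff p) = 0) :
    p ∈ Ideal.span (Set.range (rExt r κ)) := by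
  have h1 : p - C (constantCoeff p) ∈ Ideal.span (Set.range (rExt r κ)) := by
    refine Ideal.span_mono ?_ (sub_C_constantCoeff_mem κ p)
    rintro _ ⟨k, rfl⟩
    exact ⟨Sum.inr k, rfl⟩
  have h2 : (C (constantCoeff p) : MvPolynomial κ R) ∈ Ideal.span (Set.range (rExt r κ)) := by
    have h3 : constantCoeff p ∈ Ideal.span (Set.range r) := hr hp
    have h4 : (Ideal.span (Set.range r)).map (C : R →+* MvPolynomial κ R) ≤
        Ideal.span (Set.range (rExt r κ)) := by
      rw [Ideal.map_span]
      refine Ideal.span_mono ?_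
      rintro _ ⟨_, ⟨s, rfl⟩, rfl⟩
      exact ⟨Sum.inl s, rfl⟩
    exact h4 (Ideal.mem_map_of_mem _ h3)
  have := Ideal.add_mem _ h1 h2
  rwa [sub_add_cancel] at this

lemma rExt_mem_ker (hr : ∀ s, ρ (r s) = 0) (s : σ ⊕ κ) :
    ρ (constantCoeff (rExt r κ s)) = 0 := by
  rcases s with s | k
  · rw [rExt_inl, constantCoeff_C, hr]
  · rw [rExt_inr, constantCoeff_X, map_zero]

end Ker

section Abstract

variable {B : Type*} [CommRing B]
variable {R : Type*} [CommRing R] [Algebra R B] {σ : Type*} (r : σ → R)
variable {R' : Type*} [CommRing R'] [Algebra R' B] {σ' : Type*} (r' : σ' → R')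
variable (M : Type*) [AddCommGroup M] [Module B M]
variable [Module R M] [IsScalarTower R B M] [Module R' M] [IsScalarTower R' B M]

/-- **Abstract independence.** If after adding variables (sent to zero in `B`) the two rings become
isomorphic compatibly with the maps to `B`, the two `H2` are isomorphic. -/
theorem nonempty_H2_equiv
    (hr : RingHom.ker (algebraMap R B) = Ideal.span (Set.range r))
    (hr' : RingHom.ker (algebraMap R' B) = Ideal.span (Set.range r'))
    (κ κ' : Type*) (E : MvPolynomial κ' R ≃+* MvPolynomial κ R')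
    (hE : ∀ p, algebraMap R' B (constantCoeff (E p)) = algebraMap R B (constantCoeff p)) :
    Nonempty (H2 r M B ≃ₗ[B] H2 r' M B) := by
  -- module structures on `M` over the enlarged rings
  let ρ₂ : MvPolynomial κ' R →+* B := (algebraMap R B).comp constantCoeff
  let ρ₂' : MvPolynomial κ R' →+* B := (algebraMap R' B).comp constantCoeff
  let _ : Algebra (MvPolynomial κ' R) B := ρ₂.toAlgebra
  let _ : Algebra (MvPolynomial κ R') B := ρ₂'.toAlgebra
  let _ : Module (MvPolynomial κ' R) M := Module.compHom M ρ₂
  let _ : Module (MvPolynomial κ R') M := Module.compHom M ρ₂'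
  have _ : IsScalarTower (MvPolynomial κ' R) B M := IsScalarTower.of_compHom _ _ _
  have _ : IsScalarTower (MvPolynomial κ R') B M := IsScalarTower.of_compHom _ _ _
  have hsm : ∀ (p : MvPolynomial κ' R) (m : M), p • m = algebraMap R B (constantCoeff p) • m :=
    fun _ _ => rfl
  have hsm' : ∀ (p : MvPolynomial κ R') (m : M), p • m = algebraMap R' B (constantCoeff p) • m :=
    fun _ _ => rfl
  have e1 : H2 (rExt r κ') M B ≃ₗ[B] H2 r M B := by
    refine addVarsEquiv r κ' B ?_ ?_
    · intro x m
      rw [hsm, constantCoeff_C, algebraMap_smul]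
    · intro p m
      rw [hsm, algebraMap_smul]
  have e2 : H2 (rExt r' κ) M B ≃ₗ[B] H2 r' M B := by
    refine addVarsEquiv r' κ B ?_ ?_
    · intro x m
      rw [hsm', constantCoeff_C, algebraMap_smul]
    · intro p m
      rw [hsm', algebraMap_smul]
  have hE' : ∀ p', algebraMap R B (constantCoeff (E.symm p')) = algebraMap R' B (constantCoeff p') := by
    intro p'
    rw [← hE, E.apply_symm_apply]
  obtain ⟨e3⟩ : Nonempty (H2 (rExt r' κ) M B ≃ₗ[B] H2 (rExt r κ') M B) := by
    refine nonempty_equiv_of_ringEquiv B E ?_ ?_ ?_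
    · intro s
      refine mem_span_rExt_of_mem_ker r' κ (algebraMap R' B) hr'.le ?_
      rw [hE]
      refine rExt_mem_ker r κ' (algebraMap R B) (fun s => ?_) s
      have : r s ∈ RingHom.ker (algebraMap R B) := by
        rw [hr]; exact Ideal.subset_span ⟨s, rfl⟩
      exact this
    · intro s
      refine mem_span_rExt_of_mem_ker r κ' (algebraMap R B) hr.le ?_
      rw [hE']
      refine rExt_mem_ker r' κ (algebraMap R' B) (fun s => ?_) s
      have : r' s ∈ RingHom.ker (algebraMap R' B) := by
        rw [hr']; exact Ideal.subset_span ⟨s, rfl⟩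
      exact this
    · intro x m
      rw [hsm', hsm, hE]
  exact ⟨e1.symm.trans (e3.symm.trans e2)⟩

end Abstract

end

end Groth.Agent.Lib.Helper97.CotT2
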