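import Groth.Agent.Lib.Helper97.CotT2.Indep

/-!
# Independence of `H2` for two polynomial rings mapping onto the same algebra
-/

set_option autoImplicit false

namespace Groth.Agent.Lib.Helper97.CotT2

open MvPolynomial

noncomputable section

section Shift

variable {R : Type*} [CommRing R] {κ : Type*}

/-- The automorphism `X k ↦ X k - c k` of `R[κ]`. -/
def shift (c : κ → R) : MvPolynomial κ R ≃ₐ[R] MvPolynomial κ R :=
  AlgEquiv.ofAlgHom (aeval fun k => X k - C (c k)) (aeval fun k => X k + C (c k))
    (by ext k; simp) (by ext k; simp)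

@[simp] lemma shift_X (c : κ → R) (k : κ) : shift c (X k) = X k - C (c k) := by
  simp [shift]

@[simp] lemma shift_C (c : κ → R) (x : R) : shift c (C x) = C x := by
  simp [shift]

end Shift

section Poly

variable {A B : Type*} [CommRing A] [CommRing B] [Algebra A B] {ι ι' σ σ' : Type*}
variable [Algebra (MvPolynomial ι A) B] [IsScalarTower A (MvPolynomial ι A) B]
variable [Algebra (MvPolynomial ι' A) B] [IsScalarTower A (MvPolynomial ι' A) B]

variable (A B ι ι') in
/-- The natural map `A[ι][ι'] → B`. -/
def natHom : MvPolynomial ι' (MvPolynomial ι A) →+* B :=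
  eval₂Hom (algebraMap (MvPolynomial ι A) B) (fun i' => algebraMap (MvPolynomial ι' A) B (X i'))

omit [Algebra A B] [IsScalarTower A (MvPolynomial ι A) B] [IsScalarTower A (MvPolynomial ι' A) B] in
lemma natHom_shift (c : ι' → MvPolynomial ι A)
    (hc : ∀ i', algebraMap (MvPolynomial ι A) B (c i') = algebraMap (MvPolynomial ι' A) B (X i'))
    (p : MvPolynomial ι' (MvPolynomial ι A)) :
    natHom A B ι ι' (shift c p) = algebraMap (MvPolynomial ι A) B (constantCoeff p) := by
  have : (natHom A B ι ι').comp (shift c : MvPolynomial ι' (MvPolynomial ι A) →+* _) =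
      (algebraMap (MvPolynomial ι A) B).comp constantCoeff := by
    refine MvPolynomial.ringHom_ext (fun x => ?_) (fun k => ?_)
    · simp [natHom]
    · simp [natHom, hc]
  exact RingHom.congr_fun this p

lemma natHom_comm (p : MvPolynomial ι' (MvPolynomial ι A)) :
    natHom A B ι' ι (commAlgEquiv A ι' ι p) = natHom A B ι ι' p := by
  have : (natHom A B ι' ι).comp (commAlgEquiv A ι' ι : MvPolynomial ι' (MvPolynomial ι A) →+* _) =
      natHom A B ι ι' := by
    refine MvPolynomial.ringHom_ext (fun x => ?_) (fun k => ?_)
    · have h2 : ((natHom A B ι' ι).comp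
          (commAlgEquiv A ι' ι : MvPolynomial ι' (MvPolynomial ι A) →+* _)).comp C =
          (natHom A B ι ι').comp C := by
        refine MvPolynomial.ringHom_ext (fun a => ?_) (fun i => ?_)
        · simp only [RingHom.coe_comp, RingHom.coe_coe, Function.comp_apply, commAlgEquiv_C, map_C,
            natHom, coe_eval₂Hom, eval₂_C]
          rw [← MvPolynomial.algebraMap_eq, ← MvPolynomial.algebraMap_eq,
            ← IsScalarTower.algebraMap_apply, ← IsScalarTower.algebraMap_apply]
        · simp only [RingHom.coe_comp, RingHom.coe_coe, Function.comp_apply, commAlgEquiv_C_X,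
            natHom, coe_eval₂Hom, eval₂_C, eval₂_X]
      exact RingHom.congr_fun h2 x
    · simp only [RingHom.coe_comp, RingHom.coe_coe, Function.comp_apply, commAlgEquiv_X,
        natHom, coe_eval₂Hom, eval₂_C, eval₂_X]
  exact RingHom.congr_fun this p

end Poly

section Poly2

variable {A B : Type*} [CommRing A] [CommRing B] [Algebra A B] {ι ι' σ σ' : Type*}
variable [iR : Algebra (MvPolynomial ι A) B] [iT : IsScalarTower A (MvPolynomial ι A) B]
variable [iR' : Algebra (MvPolynomial ι' A) B] [iT' : IsScalarTower A (MvPolynomial ι' A) B]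
variable (M : Type*) [AddCommGroup M] [Module B M]
variable [iM : Module (MvPolynomial ι A) M] [iMT : IsScalarTower (MvPolynomial ι A) B M]
variable [iM' : Module (MvPolynomial ι' A) M] [iMT' : IsScalarTower (MvPolynomial ι' A) B M]

/-- Independence of `H2` for two polynomial rings over `A` mapping onto `B`. -/
theorem nonempty_H2_equiv_mvPolynomial
    (hs : Function.Surjective (algebraMap (MvPolynomial ι A) B))
    (hs' : Function.Surjective (algebraMap (MvPolynomial ι' A) B))
    (r : σ → MvPolynomial ι A) (r' : σ' → MvPolynomial ι' A)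
    (hr : RingHom.ker (algebraMap (MvPolynomial ι A) B) = Ideal.span (Set.range r))
    (hr' : RingHom.ker (algebraMap (MvPolynomial ι' A) B) = Ideal.span (Set.range r')) :
    Nonempty (H2 r M B ≃ₗ[B] H2 r' M B) := by
  choose c hc using fun i' : ι' => hs (algebraMap (MvPolynomial ι' A) B (X i'))
  choose c' hc' using fun i : ι => hs' (algebraMap (MvPolynomial ι A) B (X i))
  let E : MvPolynomial ι' (MvPolynomial ι A) ≃+* MvPolynomial ι (MvPolynomial ι' A) :=
    ((shift c).toRingEquiv.trans (commAlgEquiv A ι' ι).toRingEquiv).trans (shift c').symm.toRingEquiv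
  have hE : ∀ p, E p = (shift c').symm (commAlgEquiv A ι' ι (shift c p)) := fun p => rfl
  refine nonempty_H2_equiv r r' M hr hr' ι ι' E ?_
  intro p
  calc algebraMap (MvPolynomial ι' A) B (constantCoeff (E p))
      = natHom A B ι' ι (shift c' (E p)) := (natHom_shift c' hc' _).symm
    _ = natHom A B ι' ι (commAlgEquiv A ι' ι (shift c p)) := by
        rw [hE, AlgEquiv.apply_symm_apply]
    _ = natHom A B ι ι' (shift c p) := natHom_comm _
    _ = _ := natHom_shift c hc p

end Poly2

end

end Groth.Agent.Lib.Helper97.CotT2
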