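import Groth.Prelude.Def_CotT
import Mathlib

/-!
# Vanishing of `T¹` in derivation form
-/

set_option autoImplicit false

namespace Groth.Agent.Lib.Helper97.CotT2

open TensorProduct

noncomputable section

variable {k : Type*} {A : Type*} {ι σ : Type*} [CommRing k] [CommRing A] [Algebra k A]
variable (P : Algebra.Presentation k A ι σ)
variable (M : Type*) [AddCommGroup M] [Module A M] [Module P.toExtension.Ring M]
  [IsScalarTower P.toExtension.Ring A M]

/-- If `T¹(P, M) = 0`, every linear map on the free module of the relations vanishing on the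
relation module comes from a derivation of the polynomial ring. -/
theorem exists_derivation_of_subsingleton_T1 (h : Subsingleton (CotT.T1 P M))
    (ψK : CotT.relMod P →ₗ[P.toExtension.Ring] M) (h0 : ∀ a ∈ CotT.relKer P, ψK a = 0) :
    ∃ D : P.toExtension.Ring →+ M, (∀ x y, D (x * y) = x • D y + y • D x) ∧
      ∀ a, D (CotT.jmap P a) = ψK a := by
  let c : CotT.L1 P →ₗ[A] M := LinearMap.liftBaseChange A ψK
  have hc : c ∈ CotT.cocycles1 P M := by
    rw [LinearMap.mem_ker, CotT.d2Star_apply]
    refine Submodule.linearMap_qext _ ?_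
    rw [LinearMap.comp_assoc, CotT.d2_comp_mkQ, LinearMap.zero_comp]
    refine TensorProduct.AlgebraTensorModule.ext fun b q => ?_
    rw [LinearMap.comp_apply, LinearMap.baseChange_tmul, LinearMap.zero_apply]
    refine (LinearMap.liftBaseChange_tmul A ψK b _).trans ?_
    rw [Submodule.subtype_apply, h0 _ q.2, smul_zero]
  have h1 : (Submodule.Quotient.mk (⟨c, hc⟩ : CotT.cocycles1 P M) : CotT.T1 P M) = 0 :=
    Subsingleton.elim _ _
  rw [Submodule.Quotient.mk_eq_zero] at h1
  obtain ⟨ψ, hψ⟩ := h1
  have hψ' : ψ ∘ₗ CotT.d1 P = c := hψ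
  refine ⟨{ toFun := fun x => ψ ((1 : A) ⊗ₜ KaehlerDifferential.D k P.toExtension.Ring x)
            map_zero' := by rw [map_zero, TensorProduct.tmul_zero, map_zero]
            map_add' := fun x y => by rw [map_add, TensorProduct.tmul_add, map_add] }, ?_, ?_⟩
  · intro x y
    change ψ ((1 : A) ⊗ₜ KaehlerDifferential.D k P.toExtension.Ring (x * y)) =
      x • ψ ((1 : A) ⊗ₜ KaehlerDifferential.D k P.toExtension.Ring y) +
      y • ψ ((1 : A) ⊗ₜ KaehlerDifferential.D k P.toExtension.Ring x)
    rw [Derivation.leibniz, TensorProduct.tmul_add, map_add, TensorProduct.tmul_smul,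
      TensorProduct.tmul_smul, ← algebraMap_smul A x, ← algebraMap_smul A y, map_smul, map_smul,
      algebraMap_smul, algebraMap_smul]
  · intro a
    change ψ ((1 : A) ⊗ₜ KaehlerDifferential.D k P.toExtension.Ring (CotT.jmap P a)) = ψK a
    have h2 : CotT.d1 P ((1 : A) ⊗ₜ a) =
        (1 : A) ⊗ₜ KaehlerDifferential.D k P.toExtension.Ring (CotT.jmap P a) := by
      rw [CotT.d1_tmul, one_smul]
    rw [← h2, ← LinearMap.comp_apply, hψ']
    exact (LinearMap.liftBaseChange_tmul A ψK 1 a).trans (one_smul A _)

end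

end Groth.Agent.Lib.Helper97.CotT2
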