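import Groth.Agent.Lib.Helper97.CotT2.T2Vanish
import Groth.Agent.Lib.Helper97.CotT2.T1Der

/-!
# `T²((A/I)/k, M)` versus the Hom-model of `(A, I)` when `T¹(A/k, M) = T²(A/k, M) = 0`
-/

set_option autoImplicit false

namespace Groth.Agent.Lib.Helper97.CotT2

open MvPolynomial

noncomputable section

universe u

/-- If `T¹(A/k, M)` and `T²(A/k, M)` vanish, then `T²((A/I)/k, M)` vanishes iff the Hom-model
`H2` of the ring `A` with any generating family of `I` does. -/
theorem subsingleton_T2_quotient_iff (k A : Type u) [CommRing k] [CommRing A] [Algebra k A]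
    (I : Ideal A) (M : Type u) [AddCommGroup M] [Module A M] [Module (A ⧸ I) M]
    [IsScalarTower A (A ⧸ I) M]
    (hT1 : Subsingleton (CotT.T1 (CotT.canon k A) M))
    (hT2 : Subsingleton (CotT.T2 (CotT.canon k A) M))
    {σI : Type*} (rI : σI → A) (hrI : Ideal.span (Set.range rI) = I) :
    Subsingleton (CotT.T2 (CotT.canon k (A ⧸ I)) M) ↔ H2Vanishes rI M := by
  let Pc := CotT.canon k A
  let a1 : Algebra (MvPolynomial A k) A := Pc.toExtension.algebra₂
  have s1 : @IsScalarTower k (MvPolynomial A k) A _ a1.toSMul _ :=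
    inferInstanceAs (IsScalarTower k Pc.toExtension.Ring A)
  let π : MvPolynomial A k →+* A := @algebraMap (MvPolynomial A k) A _ _ a1
  have hπ : Function.Surjective π := Pc.algebraMap_surjective
  let i1 : Module (MvPolynomial A k) M := Module.compHom M π
  have i2 : @IsScalarTower (MvPolynomial A k) A M a1.toSMul _ i1.toSMul :=
    letI := a1; letI := i1; IsScalarTower.of_algebraMap_smul fun _ _ => rfl
  let rK : CotT.CanonRels k A → MvPolynomial A k := CotT.rel Pc
  have hK : RingHom.ker π = Ideal.span (Set.range rK) := ker_eq_span_rel Pc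
  let rI' : σI → MvPolynomial A k := fun i => Function.surjInv hπ (rI i)
  have hlift : ∀ i, π (rI' i) = rI i := fun i => Function.surjInv_eq hπ (rI i)
  have hc : ∀ (x : MvPolynomial A k) (m : M), π x • m = x • m := fun _ _ => rfl
  have hIM : ∀ i (m : M), rI i • m = 0 := by
    intro i m
    have h0 : algebraMap A (A ⧸ I) (rI i) = 0 := by
      rw [Ideal.Quotient.algebraMap_eq, Ideal.Quotient.eq_zero_iff_mem, ← hrI]
      exact Ideal.subset_span ⟨i, rfl⟩
    rw [← algebraMap_smul (A ⧸ I) (rI i) m, h0, zero_smul]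
  -- the `K`-side
  have hKvan : H2Vanishes rK M :=
    (@subsingleton_T2_iff_self k A _ _ _ A (CotT.CanonRels k A) Pc M _ _ i1 i2).mp hT2
  have hT1' : ∀ ψK : (CotT.CanonRels k A →₀ MvPolynomial A k) →ₗ[MvPolynomial A k] M,
      (∀ a ∈ Q rK, ψK a = 0) →
      ∃ D : MvPolynomial A k →+ M, (∀ x y, D (x * y) = x • D y + y • D x) ∧
        ∀ a, D (jm rK a) = ψK a :=
    fun ψK h0 => @exists_derivation_of_subsingleton_T1 k A A (CotT.CanonRels k A) _ _ _ Pc M _ _
      i1 i2 hT1 ψK h0
  -- the `J`-side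
  let f : MvPolynomial A k →ₐ[k] A ⧸ I :=
    (Ideal.Quotient.mkₐ k I).comp (@IsScalarTower.toAlgHom k (MvPolynomial A k) A _ _ _ _ a1 _ s1)
  have hfcoe : (f : MvPolynomial A k →+* A ⧸ I) = (Ideal.Quotient.mk I).comp π := rfl
  have hf : Function.Surjective f := by
    intro y
    obtain ⟨a, rfl⟩ := Ideal.Quotient.mk_surjective y
    obtain ⟨x, rfl⟩ := hπ a
    exact ⟨x, rfl⟩
  have hr' : RingHom.ker (f : MvPolynomial A k →+* A ⧸ I) =
      Ideal.span (Set.range (rJ rK rI')) := by
    have h1 : I = Ideal.map π (Ideal.span (Set.range rI')) := by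
      rw [Ideal.map_span, ← Set.range_comp, ← hrI]
      congr 2
      ext i
      exact (hlift i).symm
    rw [hfcoe, ← RingHom.comap_ker, Ideal.mk_ker, h1, Ideal.comap_map_of_surjective π hπ,
      ← RingHom.ker_eq_comap_bot, hK, rJ, Set.Sum.elim_range, Ideal.span_union, sup_comm]
  have hcJ : ∀ (x : MvPolynomial A k) (m : M), f x • m = x • m := by
    intro x m
    change Ideal.Quotient.mk I (π x) • m = x • m
    rw [← Ideal.Quotient.algebraMap_eq, algebraMap_smul]
    rfl
  have hJiff := subsingleton_T2_iff_H2Vanishes (CotT.canon k (A ⧸ I)) M (rJ rK rI') f hf hr' hcJ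
  rw [hJiff]
  constructor
  · intro hJ
    exact H2Vanishes_rI π rK rI rI' hK hlift M hc hπ hIM hJ hT1'
  · intro h
    exact H2Vanishes_rJ π rK rI rI' hK hlift M hc hπ hIM hKvan h

end

end Groth.Agent.Lib.Helper97.CotT2
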