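import Groth.Agent.Lib.Helper97.CotT2.Constr

/-!
# Change of rings for the Hom-model `H2`: a quotient `A = R/K` and an ideal `I` of `A`

Let `π : R → A` be a surjection with kernel `K` generated by a family `rK`, let `I ⊆ A` be
generated by a family `rI`, with lifts `rI'` to `R`; the family `rJ = rK ⊔ rI'` generates the
kernel `J` of `R → A/I`.  For a module `M` killed by `I` we compare the vanishing of
`H2 (R, rJ)`, `H2 (R, rK)` and `H2 (A, rI)`: this is the segment
`T¹(A/k) → T²(B/A) → T²(B/k) → T²(A/k)` of the long exact sequence, in elementary terms.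
-/

set_option autoImplicit false

namespace Groth.Agent.Lib.Helper97.CotT2

open Finsupp

noncomputable section

section Vanish

variable {R : Type*} [CommRing R] {σ : Type*} (r : σ → R) (M : Type*) [AddCommGroup M] [Module R M]

/-- Vanishing of `H2` in elementary terms. -/
def H2Vanishes : Prop :=
  ∀ φ : Q r →ₗ[R] M, (∀ q : Q r, (q : σ →₀ R) ∈ F0 r → φ q = 0) →
    ∃ ψ : (σ →₀ R) →ₗ[R] M, ∀ q : Q r, φ q = ψ q

lemma subsingleton_H2_iff (S : Type*) [Ring S] [Module S M] [SMulCommClass R S M] :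
    Subsingleton (H2 r M S) ↔ H2Vanishes r M := by
  constructor
  · intro h φ hφ
    have : (Submodule.Quotient.mk (⟨φ, hφ⟩ : Z r M S) : H2 r M S) = 0 := Subsingleton.elim _ _
    rw [Submodule.Quotient.mk_eq_zero] at this
    exact this
  · intro h
    have hall : ∀ z : Z r M S, (Submodule.Quotient.mk z : H2 r M S) = 0 := by
      intro z
      rw [Submodule.Quotient.mk_eq_zero]
      exact h z.1 z.2
    refine ⟨fun a b => ?_⟩
    induction a using Submodule.Quotient.induction_on with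
    | H z =>
      induction b using Submodule.Quotient.induction_on with
      | H z' => rw [hall z, hall z']

variable {r M}

lemma jm_smul_eq_zero (hM : ∀ s (m : M), r s • m = 0) (a : σ →₀ R) (m : M) : jm r a • m = 0 := by
  induction a using Finsupp.induction_linear with
  | zero => rw [map_zero, zero_smul]
  | add f g hf hg => rw [map_add, add_smul, hf, hg, add_zero]
  | single s x => rw [jm_single, mul_smul, hM, smul_zero]

/-- Linear maps to a module killed by the family kill the trivial relations. -/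
lemma apply_eq_zero_of_mem_F0 (hM : ∀ s (m : M), r s • m = 0) (ψ : (σ →₀ R) →ₗ[R] M)
    {f : σ →₀ R} (hf : f ∈ F0 r) : ψ f = 0 := by
  induction hf using Submodule.span_induction with
  | mem x hx =>
    obtain ⟨a, b, rfl⟩ := hx
    rw [map_sub, map_smul, map_smul, jm_smul_eq_zero hM, jm_smul_eq_zero hM, sub_zero]
  | zero => exact map_zero ψ
  | add x y _ _ hx hy => rw [map_add, hx, hy, add_zero]
  | smul c x _ hx => rw [map_smul, hx, smul_zero]

end Vanish

section Chase

variable {R A : Type*} [CommRing R] [CommRing A] (π : R →+* A)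
variable {σK σI : Type*} (rK : σK → R) (rI : σI → A) (rI' : σI → R)

/-- The combined family. -/
abbrev rJ : σK ⊕ σI → R := Sum.elim rK rI'

/-- The inclusion `F_K → F_J`. -/
abbrev iK : (σK →₀ R) →ₗ[R] (σK ⊕ σI →₀ R) := Finsupp.lmapDomain R R Sum.inl

/-- The inclusion `F_I → F_J`. -/
abbrev iI : (σI →₀ R) →ₗ[R] (σK ⊕ σI →₀ R) := Finsupp.lmapDomain R R Sum.inr

/-- The projection `F_J → F_K`. -/
def pK : (σK ⊕ σI →₀ R) →ₗ[R] (σK →₀ R) :=
  Finsupp.linearCombination R (Sum.elim (fun s => Finsupp.single s (1 : R)) (fun _ => 0))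

/-- The projection `F_J → F_I`. -/
def pI : (σK ⊕ σI →₀ R) →ₗ[R] (σI →₀ R) :=
  Finsupp.linearCombination R (Sum.elim (fun _ => 0) (fun i => Finsupp.single i (1 : R)))

@[simp] lemma pK_single_inl (s : σK) (x : R) :
    pK (σI := σI) (Finsupp.single (Sum.inl s) x) = Finsupp.single s x := by
  simp [pK, Finsupp.linearCombination_single]

@[simp] lemma pK_single_inr (i : σI) (x : R) :
    pK (σK := σK) (Finsupp.single (Sum.inr i) x) = 0 := by
  simp [pK, Finsupp.linearCombination_single]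

@[simp] lemma pI_single_inl (s : σK) (x : R) :
    pI (σI := σI) (Finsupp.single (Sum.inl s) x) = 0 := by
  simp [pI, Finsupp.linearCombination_single]

@[simp] lemma pI_single_inr (i : σI) (x : R) :
    pI (σK := σK) (Finsupp.single (Sum.inr i) x) = Finsupp.single i x := by
  simp [pI, Finsupp.linearCombination_single]

lemma iK_single (s : σK) (x : R) :
    iK (σI := σI) (Finsupp.single s x) = Finsupp.single (Sum.inl s) x := by
  simp [Finsupp.lmapDomain_apply, Finsupp.mapDomain_single]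

lemma iI_single (i : σI) (x : R) :
    iI (σK := σK) (Finsupp.single i x) = Finsupp.single (Sum.inr i) x := by
  simp [Finsupp.lmapDomain_apply, Finsupp.mapDomain_single]

lemma decomp (f : σK ⊕ σI →₀ R) : f = iK (pK f) + iI (pI f) := by
  induction f using Finsupp.induction_linear with
  | zero => simp
  | add f g hf hg =>
    rw [map_add, map_add, map_add, map_add]
    nth_rewrite 1 [hf, hg]
    abel
  | single s x =>
    rcases s with s | i
    · rw [pK_single_inl, pI_single_inl, iK_single, map_zero, add_zero]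
    · rw [pK_single_inr, pI_single_inr, iI_single, map_zero, zero_add]

lemma pK_iK (a : σK →₀ R) : pK (σI := σI) (iK a) = a := by
  induction a using Finsupp.induction_linear with
  | zero => simp
  | add f g hf hg => rw [map_add, map_add, hf, hg]
  | single s x => rw [iK_single, pK_single_inl]

lemma jm_iK (a : σK →₀ R) : jm (rJ rK rI') (iK a) = jm rK a := by
  induction a using Finsupp.induction_linear with
  | zero => simp
  | add f g hf hg => rw [map_add, map_add, hf, hg, map_add]
  | single s x => rw [iK_single, jm_single, jm_single]; rfl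

lemma jm_iI (b : σI →₀ R) : jm (rJ rK rI') (iI b) = jm rI' b := by
  induction b using Finsupp.induction_linear with
  | zero => simp
  | add f g hf hg => rw [map_add, map_add, hf, hg, map_add]
  | single s x => rw [iI_single, jm_single, jm_single]; rfl

/-- Reduction of coefficients `F_I(R) → F_I(A)`. -/
abbrev redI (b : σI →₀ R) : σI →₀ A := Finsupp.mapRange π (map_zero π) b

lemma jm_redI (hlift : ∀ i, π (rI' i) = rI i) (b : σI →₀ R) : jm rI (redI π b) = π (jm rI' b) := by
  induction b using Finsupp.induction_linear with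
  | zero => simp
  | add f g hf hg =>
    rw [redI, Finsupp.mapRange_add (map_add π), map_add, map_add, map_add]
    exact congrArg₂ _ hf hg
  | single s x =>
    rw [redI, Finsupp.mapRange_single, jm_single, jm_single, map_mul, hlift]

variable (hK : RingHom.ker π = Ideal.span (Set.range rK)) (hlift : ∀ i, π (rI' i) = rI i)

/-- The morphism of data `(R, rK) → (R, rJ)`. -/
def dK : DHom rK (rJ rK rI') where
  α := RingHom.id R
  θ := (iK (σI := σI)).toAddMonoidHom
  θ_smul x f := map_smul (iK (σI := σI)) x f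
  jm_θ f := jm_iK rK rI' f

include hK hlift in
/-- The morphism of data `(R, rJ) → (A, rI)`. -/
def dI : DHom (rJ rK rI') rI :=
  DHom.ofVals π (Sum.elim (fun _ => 0) (fun i => Finsupp.single i (1 : A))) (by
    rintro (s | i)
    · have : rK s ∈ RingHom.ker π := by
        rw [hK]
        exact Ideal.subset_span ⟨s, rfl⟩
      rw [Sum.elim_inl, map_zero, rJ, Sum.elim_inl]
      exact this.symm
    · rw [Sum.elim_inr, jm_single, one_mul, rJ, Sum.elim_inr, hlift])

lemma dI_α : (dI π rK rI rI' hK hlift).α = π := rfl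

lemma dI_iK (a : σK →₀ R) : (dI π rK rI rI' hK hlift).θ (iK a) = 0 := by
  induction a using Finsupp.induction_linear with
  | zero => simp
  | add f g hf hg => rw [map_add, map_add, hf, hg, add_zero]
  | single s x =>
    rw [iK_single, dI, DHom.ofVals_θ_single, Sum.elim_inl, smul_zero]

lemma dI_iI (b : σI →₀ R) : (dI π rK rI rI' hK hlift).θ (iI b) = redI π b := by
  induction b using Finsupp.induction_linear with
  | zero => simp
  | add f g hf hg =>
    rw [map_add, map_add, hf, hg, redI, redI, redI, Finsupp.mapRange_add (map_add π)]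
  | single s x =>
    rw [iI_single, dI, DHom.ofVals_θ_single, Sum.elim_inr, Finsupp.smul_single, smul_eq_mul,
      mul_one, redI, Finsupp.mapRange_single]

lemma dI_apply (f : σK ⊕ σI →₀ R) : (dI π rK rI rI' hK hlift).θ f = redI π (pI f) := by
  conv_lhs => rw [decomp f]
  rw [map_add, dI_iK, dI_iI, zero_add]

include hK in
/-- Elements of `F_I` with coefficients in `K` are congruent to elements of `F_K` modulo the
trivial relations. -/
lemma exists_iK_sub_mem_F0 (b : σI →₀ R) (hb : ∀ i, b i ∈ RingHom.ker π) :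
    ∃ a' : σK →₀ R, iI b - iK a' ∈ F0 (rJ rK rI') := by
  induction b using Finsupp.induction with
  | zero => exact ⟨0, by simp⟩
  | single_add i x f hi hx ih =>
    have hfi : f i = 0 := Finsupp.notMem_support_iff.mp hi
    have hxk : x ∈ RingHom.ker π := by
      have := hb i
      rwa [Finsupp.add_apply, Finsupp.single_eq_same, hfi, add_zero] at this
    have hf : ∀ i', f i' ∈ RingHom.ker π := by
      intro i'
      by_cases h : i' = i
      · rw [h, hfi]; exact Submodule.zero_mem _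
      · have := hb i'
        rwa [Finsupp.add_apply, Finsupp.single_eq_of_ne h, zero_add] at this
    obtain ⟨a', ha'⟩ := ih hf
    rw [hK] at hxk
    obtain ⟨h, hh⟩ := Finsupp.mem_span_range_iff_exists_finsupp.mp hxk
    have hh' : jm rK h = x := by rw [← hh, jm, Finsupp.linearCombination_apply]
    refine ⟨rI' i • h + a', ?_⟩
    have key : iI (σK := σK) (Finsupp.single i x) - iK (rI' i • h) ∈ F0 (rJ rK rI') := by
      have := triv_mem_F0 (rJ rK rI') (iK h) (Finsupp.single (Sum.inr i) (1 : R))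
      rw [jm_iK, hh', jm_single, one_mul, Finsupp.smul_single, smul_eq_mul, mul_one] at this
      rw [iI_single, map_smul]
      exact this
    have : iI (σK := σK) (Finsupp.single i x + f) - iK (rI' i • h + a') =
        (iI (σK := σK) (Finsupp.single i x) - iK (rI' i • h)) + (iI f - iK a') := by
      rw [map_add, map_add]
      abel
    rw [this]
    exact Submodule.add_mem _ key ha'

lemma redI_eq_zero_iff (b : σI →₀ R) : redI π b = 0 ↔ ∀ i, b i ∈ RingHom.ker π := by
  constructor
  · intro h i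
    have := DFunLike.congr_fun h i
    rwa [Finsupp.mapRange_apply] at this
  · intro h
    ext i
    rw [Finsupp.mapRange_apply]
    exact h i

include hK hlift in
/-- The kernel of `Q_J → Q_I` is `Q_K` modulo trivial relations. -/
lemma exists_sub_iK_mem_F0 {f : σK ⊕ σI →₀ R} (hf : f ∈ Q (rJ rK rI'))
    (h0 : (dI π rK rI rI' hK hlift).θ f = 0) :
    ∃ a : σK →₀ R, a ∈ Q rK ∧ f - iK a ∈ F0 (rJ rK rI') := by
  rw [dI_apply, redI_eq_zero_iff] at h0
  obtain ⟨a', ha'⟩ := exists_iK_sub_mem_F0 π rK rI' hK (pI f) h0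
  refine ⟨pK f + a', ?_, ?_⟩
  · have h1 : f - iK (pK f + a') = iI (pI f) - iK a' := by
      have hd := decomp f
      rw [map_add]
      calc f - (iK (pK f) + iK a') = (iK (pK f) + iI (pI f)) - (iK (pK f) + iK a') := by
            rw [← hd]
        _ = _ := by abel
    have h2 : jm (rJ rK rI') (f - iK (pK f + a')) = 0 := by
      rw [h1]
      exact jm_eq_zero_of_mem_F0 _ ha'
    rw [map_sub, (mem_Q _).mp hf, zero_sub, neg_eq_zero, jm_iK] at h2
    exact (mem_Q _).mpr h2
  · have h1 : f - iK (pK f + a') = iI (pI f) - iK a' := by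
      have hd := decomp f
      rw [map_add]
      calc f - (iK (pK f) + iK a') = (iK (pK f) + iI (pI f)) - (iK (pK f) + iK a') := by
            rw [← hd]
        _ = _ := by abel
    rw [h1]
    exact ha'

include hK hlift in
/-- `Q_J → Q_I` is surjective. -/
lemma exists_mem_Q_dI (hπ : Function.Surjective π) {q' : σI →₀ A} (hq' : q' ∈ Q rI) :
    ∃ q : σK ⊕ σI →₀ R, q ∈ Q (rJ rK rI') ∧ (dI π rK rI rI' hK hlift).θ q = q' := by
  obtain ⟨b, hb⟩ := Finsupp.mapRange_surjective π (map_zero π) hπ q'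
  have h1 : jm rI' b ∈ RingHom.ker π := by
    rw [RingHom.mem_ker, ← jm_redI π rI rI' hlift, redI, hb]
    exact (mem_Q _).mp hq'
  rw [hK] at h1
  obtain ⟨a, ha⟩ := Finsupp.mem_span_range_iff_exists_finsupp.mp h1
  have ha' : jm rK a = jm rI' b := by rw [← ha, jm, Finsupp.linearCombination_apply]
  refine ⟨iI b - iK a, ?_, ?_⟩
  · rw [mem_Q, map_sub, jm_iI, jm_iK, ha', sub_self]
  · rw [map_sub, dI_iI, dI_iK, sub_zero]
    exact hb

variable (M : Type*) [AddCommGroup M] [Module R M] [Module A M]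
variable (hc : ∀ (x : R) (m : M), π x • m = x • m)

include hc in
/-- Descent of a cocycle on `Q_J` vanishing on `Q_K` to `Q_I`. -/
lemma exists_descent (hπ : Function.Surjective π) (φ : Q (rJ rK rI') →ₗ[R] M)
    (h0 : ∀ q : Q (rJ rK rI'), (q : σK ⊕ σI →₀ R) ∈ F0 (rJ rK rI') → φ q = 0)
    (hQK : ∀ (a : σK →₀ R) (ha : a ∈ Q rK),
      φ ⟨iK a, (dK rK rI').θ_mem_Q ha⟩ = 0) :
    ∃ φ' : Q rI →ₗ[A] M, ∀ q : Q (rJ rK rI'),
      φ' ⟨(dI π rK rI rI' hK hlift).θ q, (dI π rK rI rI' hK hlift).θ_mem_Q q.2⟩ = φ q := by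
  -- well-definedness
  have hwd : ∀ q q' : Q (rJ rK rI'), (dI π rK rI rI' hK hlift).θ q = (dI π rK rI rI' hK hlift).θ q' →
      φ q = φ q' := by
    intro q q' h
    have hd : (dI π rK rI rI' hK hlift).θ ((q - q' : Q (rJ rK rI')) : σK ⊕ σI →₀ R) = 0 := by
      rw [Submodule.coe_sub, map_sub, h, sub_self]
    obtain ⟨a, ha, hmem⟩ := exists_sub_iK_mem_F0 π rK rI rI' hK hlift (q - q').2 hd
    have h1 : q - q' = (⟨iK a, (dK rK rI').θ_mem_Q ha⟩ : Q (rJ rK rI')) +
        ⟨((q - q' : Q (rJ rK rI')) : σK ⊕ σI →₀ R) - iK a, F0_le_Q _ hmem⟩ := by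
      apply Subtype.ext
      simp
    have h2 := congrArg φ h1
    rw [map_add, hQK a ha,
      h0 ⟨((q - q' : Q (rJ rK rI')) : σK ⊕ σI →₀ R) - iK a, F0_le_Q _ hmem⟩ hmem, add_zero] at h2
    have h3 : φ (q - q') = φ q - φ q' := map_sub φ q q'
    rw [h3, sub_eq_zero] at h2
    exact h2
  have hsec : ∀ q' : Q rI, ∃ q : Q (rJ rK rI'), (dI π rK rI rI' hK hlift).θ q = q' := by
    intro q'
    obtain ⟨q, hq, hq2⟩ := exists_mem_Q_dI π rK rI rI' hK hlift hπ q'.2
    exact ⟨⟨q, hq⟩, hq2⟩
  choose s hs using hsec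
  refine ⟨{ toFun := fun q' => φ (s q')
            map_add' := ?_
            map_smul' := ?_ }, ?_⟩
  · intro x y
    rw [← map_add]
    apply hwd
    rw [hs, Submodule.coe_add, Submodule.coe_add, map_add, hs, hs]
  · intro c x
    obtain ⟨t, rfl⟩ := hπ c
    rw [RingHom.id_apply, hc, ← map_smul]
    apply hwd
    rw [hs, Submodule.coe_smul, Submodule.coe_smul, (dI π rK rI rI' hK hlift).θ_smul, hs, dI_α]
  · intro q
    apply hwd
    exact hs _

include hK hlift in
/-- Trivial relations of `rI` lift to trivial relations of `rJ`. -/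
lemma exists_mem_F0_dI (hπ : Function.Surjective π) {t' : σI →₀ A} (ht' : t' ∈ F0 rI) :
    ∃ t : σK ⊕ σI →₀ R, t ∈ F0 (rJ rK rI') ∧ (dI π rK rI rI' hK hlift).θ t = t' := by
  induction ht' using Submodule.span_induction with
  | mem x hx =>
    obtain ⟨a', b', rfl⟩ := hx
    obtain ⟨a, rfl⟩ := Finsupp.mapRange_surjective π (map_zero π) hπ a'
    obtain ⟨b, rfl⟩ := Finsupp.mapRange_surjective π (map_zero π) hπ b'
    refine ⟨jm (rJ rK rI') (iI a) • iI b - jm (rJ rK rI') (iI b) • iI a, triv_mem_F0 _ _ _, ?_⟩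
    rw [map_sub, DHom.θ_smul, DHom.θ_smul, dI_iI, dI_iI, dI_α, jm_iI, jm_iI,
      ← jm_redI π rI rI' hlift, ← jm_redI π rI rI' hlift]
  | zero => exact ⟨0, Submodule.zero_mem _, map_zero _⟩
  | add x y _ _ hx hy =>
    obtain ⟨t, ht, rfl⟩ := hx
    obtain ⟨u, hu, rfl⟩ := hy
    exact ⟨t + u, Submodule.add_mem _ ht hu, map_add _ _ _⟩
  | smul c x _ hx =>
    obtain ⟨t, ht, rfl⟩ := hx
    obtain ⟨d, rfl⟩ := hπ c
    refine ⟨d • t, Submodule.smul_mem _ _ ht, ?_⟩
    rw [DHom.θ_smul, dI_α]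

include hK hlift hc in
lemma rJ_smul_eq_zero (hIM : ∀ i (m : M), rI i • m = 0) (s : σK ⊕ σI) (m : M) :
    rJ rK rI' s • m = 0 := by
  rcases s with s | i
  · have : π (rK s) = 0 := by
      have : rK s ∈ RingHom.ker π := by
        rw [hK]
        exact Ideal.subset_span ⟨s, rfl⟩
      exact this
    rw [rJ, Sum.elim_inl, ← hc, this, zero_smul]
  · rw [rJ, Sum.elim_inr, ← hc, hlift, hIM]

include hK hlift hc in
/-- **(K1)** `T²(A/k) = 0` and `T²(B/A) = 0` imply `T²(B/k) = 0`, in the Hom-model. -/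
theorem H2Vanishes_rJ (hπ : Function.Surjective π) (hIM : ∀ i (m : M), rI i • m = 0)
    (h1 : H2Vanishes rK M) (h2 : H2Vanishes rI M) : H2Vanishes (rJ rK rI') M := by
  intro φ hφ
  have hJM := rJ_smul_eq_zero π rK rI rI' hK hlift M hc hIM
  have hcK : (dK rK rI').Compat M := fun _ _ => rfl
  have hcI : (dI π rK rI rI' hK hlift).Compat M := hc
  -- step 1: restrict to `Q_K`
  obtain ⟨ψK, hψK⟩ := h1 ((dK rK rI').pullFun hcK φ)
    (fun q hq => hφ _ ((dK rK rI').θ_mem_F0 hq))
  let ψ1 : (σK ⊕ σI →₀ R) →ₗ[R] M := ψK ∘ₗ pK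
  let φ1 : Q (rJ rK rI') →ₗ[R] M := φ - ψ1 ∘ₗ (Q (rJ rK rI')).subtype
  have hφ1 : ∀ q : Q (rJ rK rI'), (q : σK ⊕ σI →₀ R) ∈ F0 (rJ rK rI') → φ1 q = 0 := by
    intro q hq
    change φ q - ψ1 q = 0
    rw [hφ q hq, apply_eq_zero_of_mem_F0 hJM ψ1 hq, sub_zero]
  have hφ1K : ∀ (a : σK →₀ R) (ha : a ∈ Q rK), φ1 ⟨iK a, (dK rK rI').θ_mem_Q ha⟩ = 0 := by
    intro a ha
    change φ ⟨iK a, (dK rK rI').θ_mem_Q ha⟩ - ψK (pK (iK a)) = 0
    rw [pK_iK, ← hψK ⟨a, ha⟩]
    exact sub_self _
  -- step 2: descend to `Q_I`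
  obtain ⟨φ', hφ'⟩ := exists_descent π rK rI rI' hK hlift M hc hπ φ1 hφ1 hφ1K
  have hφ'0 : ∀ q' : Q rI, (q' : σI →₀ A) ∈ F0 rI → φ' q' = 0 := by
    intro q' hq'
    obtain ⟨t, ht, htq⟩ := exists_mem_F0_dI π rK rI rI' hK hlift hπ hq'
    have h3 := hφ' ⟨t, F0_le_Q _ ht⟩
    rw [hφ1 ⟨t, F0_le_Q _ ht⟩ ht] at h3
    rw [← h3]
    congr 1
    exact Subtype.ext htq.symm
  -- step 3
  obtain ⟨ψ', hψ'⟩ := h2 φ' hφ'0
  refine ⟨ψ1 + (dI π rK rI rI' hK hlift).compLin hcI ψ', fun q => ?_⟩
  have h4 : φ q = φ1 q + ψ1 q := by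
    change φ q = (φ q - ψ1 q) + ψ1 q
    abel
  rw [h4, LinearMap.add_apply, add_comm, ← hφ' q, hψ']
  rfl

include hK hlift hc in
/-- **(K2)** `T²(B/k) = 0` and `T¹(A/k) = 0` (in derivation form) imply `T²(B/A) = 0`, in the
Hom-model. -/
theorem H2Vanishes_rI (hπ : Function.Surjective π) (hIM : ∀ i (m : M), rI i • m = 0)
    (hJ : H2Vanishes (rJ rK rI') M)
    (hT1 : ∀ ψK : (σK →₀ R) →ₗ[R] M, (∀ a ∈ Q rK, ψK a = 0) →
      ∃ D : R →+ M, (∀ x y, D (x * y) = x • D y + y • D x) ∧ ∀ a, D (jm rK a) = ψK a) :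
    H2Vanishes rI M := by
  intro φ' hφ'
  have hcI : (dI π rK rI rI' hK hlift).Compat M := hc
  obtain ⟨ψ, hψ⟩ := hJ ((dI π rK rI rI' hK hlift).pullFun hcI φ')
    (fun q hq => hφ' _ ((dI π rK rI rI' hK hlift).θ_mem_F0 hq))
  let ψK : (σK →₀ R) →ₗ[R] M := ψ ∘ₗ iK
  let ψI : (σI →₀ R) →ₗ[R] M := ψ ∘ₗ iI
  have hψK0 : ∀ a ∈ Q rK, ψK a = 0 := by
    intro a ha
    have h1 := hψ ⟨iK a, (dK rK rI').θ_mem_Q ha⟩
    rw [DHom.pullFun_apply] at h1
    change ψ (iK a) = 0
    rw [← h1]
    have : (⟨(dI π rK rI rI' hK hlift).θ (iK a),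
        (dI π rK rI rI' hK hlift).θ_mem_Q ((dK rK rI').θ_mem_Q ha)⟩ : Q rI) = 0 :=
      Subtype.ext (dI_iK π rK rI rI' hK hlift a)
    rw [this, map_zero]
  obtain ⟨D, hD, hDK⟩ := hT1 ψK hψK0
  have hI'M : ∀ i (m : M), rI' i • m = 0 := fun i m => by rw [← hc, hlift, hIM]
  let g : (σI →₀ R) →ₗ[R] M := ψI - Finsupp.linearCombination R (fun i => D (rI' i))
  have hg : ∀ b : σI →₀ R, g b = ψI b - D (jm rI' b) := by
    intro b
    change ψI b - Finsupp.linearCombination R (fun i => D (rI' i)) b = _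
    congr 1
    induction b using Finsupp.induction_linear with
    | zero => simp
    | add f f' hf hf' => rw [map_add, map_add, map_add, hf, hf']
    | single i c =>
      rw [Finsupp.linearCombination_single, jm_single, hD, hI'M, add_zero]
  let ψ' : (σI →₀ A) →ₗ[A] M := Finsupp.linearCombination A (fun i => g (Finsupp.single i 1))
  have hψ'red : ∀ b : σI →₀ R, ψ' (redI π b) = g b := by
    intro b
    induction b using Finsupp.induction_linear with
    | zero => simp
    | add f f' hf hf' =>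
      rw [redI, Finsupp.mapRange_add (map_add π), map_add, map_add]
      exact congrArg₂ _ hf hf'
    | single i c =>
      rw [redI, Finsupp.mapRange_single, Finsupp.linearCombination_single, hc, ← map_smul,
        Finsupp.smul_single, smul_eq_mul, mul_one]
  refine ⟨ψ', fun q' => ?_⟩
  obtain ⟨q, hq, hq2⟩ := exists_mem_Q_dI π rK rI rI' hK hlift hπ q'.2
  have h1 : φ' q' = ψ q := by
    rw [← hψ ⟨q, hq⟩, DHom.pullFun_apply]
    congr 1
    exact Subtype.ext hq2.symm
  have h2 : ψ q = ψK (pK q) + ψI (pI q) := by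
    conv_lhs => rw [decomp q]
    rw [map_add]
    rfl
  have h3 : jm rK (pK q) = - jm rI' (pI q) := by
    have := (mem_Q _).mp hq
    rw [decomp q, map_add, jm_iK, jm_iI] at this
    exact eq_neg_of_add_eq_zero_left this
  rw [h1, h2, ← hDK, h3, map_neg, ← hq2, dI_apply, hψ'red, hg]
  abel

end Chase

end

end Groth.Agent.Lib.Helper97.CotT2
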