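import Groth.Agent.Lib.Helper97.CotT2.GlobalC1
import Groth.Agent.Lib.Helper97.CotT2.ChangeRing

/-!
# Localizing the ring: vanishing of the Hom-model `H2` over a localization implies vanishing over
the ring itself (for modules over the localization)
-/

set_option autoImplicit false

namespace Groth.Agent.Lib.Helper97.CotT2

open Finsupp

noncomputable section

variable {R : Type*} [CommRing R] {σ : Type*} (r : σ → R)
variable (S : Type*) [CommRing S] [Algebra R S] (p : Submonoid R) [IsLocalization p S]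

/-- The localized family. -/
abbrev rLoc : σ → S := fun s => algebraMap R S (r s)

lemma locMap_mem_Q {q : σ →₀ R} (hq : q ∈ Q r) : locMap (σ := σ) S q ∈ Q (rLoc r S) := by
  rw [mem_Q, locMap_apply, jm_mapRange r (algebraMap R S) q, (mem_Q r).mp hq, map_zero]

/-- The localization map on the relation modules. -/
def locQ : Q r →ₗ[R] Q (rLoc r S) where
  toFun q := ⟨locMap (σ := σ) S (q : σ →₀ R), locMap_mem_Q r S q.2⟩
  map_add' q q' := Subtype.ext (map_add (locMap (σ := σ) S) (q : σ →₀ R) (q' : σ →₀ R))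
  map_smul' x q := Subtype.ext (map_smul (locMap (σ := σ) S) x (q : σ →₀ R))

@[simp] lemma locQ_coe (q : Q r) :
    ((locQ r S q : Q (rLoc r S)) : σ →₀ S) = locMap (σ := σ) S (q : σ →₀ R) :=
  rfl

/-- Every relation of the localized family is a fraction of a relation of the family. -/
lemma exists_smul_eq_locMap {q' : σ →₀ S} (hq' : q' ∈ Q (rLoc r S)) :
    ∃ (u : p) (q : σ →₀ R), q ∈ Q r ∧ u • q' = locMap (σ := σ) S q := by
  obtain ⟨⟨f, s⟩, hfs⟩ := IsLocalizedModule.surj p (locMap (σ := σ) S) q'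
  have hfs' : (s : R) • q' = locMap (σ := σ) S f := hfs
  have h1 : algebraMap R S (jm r f) = 0 := by
    rw [← jm_mapRange r (algebraMap R S) f, ← locMap_apply, ← hfs', ← algebraMap_smul S (s : R) q',
      map_smul, (mem_Q _).mp hq', smul_zero]
  obtain ⟨t, ht⟩ := (IsLocalization.map_eq_zero_iff p S (jm r f)).mp h1
  refine ⟨t * s, (t : R) • f, ?_, ?_⟩
  · rw [mem_Q, map_smul, smul_eq_mul]
    exact ht
  · rw [map_smul, ← hfs', Submonoid.smul_def, Submonoid.coe_mul, mul_smul]

instance isLocalizedModule_locQ : IsLocalizedModule p (locQ r S) where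
  map_units := (isLocalizedModule_id p (Q (rLoc r S)) S).map_units
  surj y := by
    obtain ⟨u, q, hq, huq⟩ := exists_smul_eq_locMap r S p y.2
    exact ⟨(⟨q, hq⟩, u), Subtype.ext huq⟩
  exists_of_eq {x₁ x₂} h := by
    have h' : locMap (σ := σ) S (x₁ : σ →₀ R) = locMap (σ := σ) S (x₂ : σ →₀ R) :=
      congrArg Subtype.val h
    obtain ⟨c, hc⟩ := (IsLocalizedModule.eq_iff_exists p (locMap (σ := σ) S)).mp h'
    exact ⟨c, Subtype.ext hc⟩

variable (M : Type*) [AddCommGroup M] [Module R M] [Module S M] [IsScalarTower R S M]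

include p in
/-- **Localization lemma**: vanishing over the localization implies vanishing over the ring. -/
theorem H2Vanishes_of_localization (h : H2Vanishes (rLoc r S) M) : H2Vanishes r M := by
  intro φ hφ
  have hunits : ∀ x : p, IsUnit (algebraMap R (Module.End R M) x) :=
    (isLocalizedModule_id p M S).map_units
  let φR : Q (rLoc r S) →ₗ[R] M := IsLocalizedModule.lift p (locQ r S) φ hunits
  have hφR : ∀ q : Q r, φR (locQ r S q) = φ q := fun q =>
    IsLocalizedModule.lift_apply p (locQ r S) φ hunits q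
  let φ' : Q (rLoc r S) →ₗ[S] M := φR.extendScalarsOfIsLocalization p S
  have hφ' : ∀ q : Q r, φ' (locQ r S q) = φ q := hφR
  have hφ'0 : ∀ q' : Q (rLoc r S), (q' : σ →₀ S) ∈ F0 (rLoc r S) → φ' q' = 0 := by
    intro q' hq'
    obtain ⟨n, hn, u, hnu⟩ := F0_map_le_localized' r S p hq'
    rw [IsLocalizedModule.mk'_eq_iff] at hnu
    have h1 : locQ r S ⟨n, F0_le_Q r hn⟩ = u • q' := Subtype.ext hnu
    have h2 : φ' (u • q') = 0 := by
      rw [← h1, hφ', hφ _ hn]
    have h3 : φ' (u • q') = (u : R) • φ' q' := by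
      have : u • q' = (u : R) • q' := rfl
      rw [this]
      exact φR.map_smul (u : R) q'
    rw [h3] at h2
    have hinj := ((Module.End.isUnit_iff _).mp (hunits u)).injective
    apply hinj
    rw [Module.algebraMap_end_apply, Module.algebraMap_end_apply, h2, smul_zero]
  obtain ⟨ψ', hψ'⟩ := h φ' hφ'0
  refine ⟨ψ'.restrictScalars R ∘ₗ locMap (σ := σ) S, fun q => ?_⟩
  rw [← hφ' q, hψ']
  rfl

end

end Groth.Agent.Lib.Helper97.CotT2
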