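import Groth.Agent.Lib.Helper97.CotT2.ChangeRing
import Groth.Agent.Lib.Helper97.CotT2.LocRing
import Groth.Agent.Lib.Helper97.CotT2.Assemble

/-!
# Invariance of the vanishing of the Hom-model: generating families, ring isomorphisms,
localization, adding variables
-/

set_option autoImplicit false

namespace Groth.Agent.Lib.Helper97.CotT2

open MvPolynomial

noncomputable section

section Congr

variable {R : Type*} [CommRing R] {σ : Type*} {r : σ → R}
variable {R' : Type*} [CommRing R'] {σ' : Type*} {r' : σ' → R'}

/-- Vanishing of `H2` only depends on the ideal, up to ring isomorphism. -/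
theorem H2Vanishes_of_ringEquiv (e : R ≃+* R') (M : Type*) [AddCommGroup M] [Module R M]
    [Module R' M] (h1 : ∀ s, e (r s) ∈ Ideal.span (Set.range r'))
    (h2 : ∀ s', e.symm (r' s') ∈ Ideal.span (Set.range r))
    (hc : ∀ (x : R) (m : M), e x • m = x • m) : H2Vanishes r' M ↔ H2Vanishes r M := by
  obtain ⟨E⟩ := nonempty_equiv_of_ringEquiv (r := r) (r' := r') (M := M) ℤ e h1 h2 hc
  rw [← subsingleton_H2_iff r' M ℤ, ← subsingleton_H2_iff r M ℤ]
  exact E.toEquiv.subsingleton_congr

/-- The family of all elements of the kernel of a ring homomorphism. -/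
abbrev kerFam {B : Type*} [CommRing B] (g : R →+* B) : RingHom.ker g → R := Subtype.val

lemma span_range_kerFam {B : Type*} [CommRing B] (g : R →+* B) :
    Ideal.span (Set.range (kerFam g)) = RingHom.ker g := by
  rw [kerFam, Subtype.range_val]
  exact Ideal.span_eq _

/-- Vanishing for a generating family of the kernel is vanishing for the whole kernel. -/
theorem H2Vanishes_iff_kerFam {B : Type*} [CommRing B] (g : R →+* B) (M : Type*) [AddCommGroup M]
    [Module R M] (hr : Ideal.span (Set.range r) = RingHom.ker g) :
    H2Vanishes (kerFam g) M ↔ H2Vanishes r M := by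
  refine H2Vanishes_of_ringEquiv (RingEquiv.refl R) M ?_ ?_ (fun _ _ => rfl)
  · intro s
    rw [span_range_kerFam, ← hr]
    exact Ideal.subset_span ⟨s, rfl⟩
  · intro s'
    rw [hr]
    exact s'.2

end Congr

section Loc

variable {R : Type*} [CommRing R] (S : Type*) [CommRing S] [Algebra R S] (p : Submonoid R)
  [IsLocalization p S] {B : Type*} [CommRing B] (g' : S →+* B)
variable (M : Type*) [AddCommGroup M] [Module R M] [Module S M] [IsScalarTower R S M]

include p in
/-- Localization: vanishing for `S = p⁻¹R → B` implies vanishing for `R → S → B`. -/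
theorem H2Vanishes_kerFam_of_localization (h : H2Vanishes (kerFam g') M) :
    H2Vanishes (kerFam (g'.comp (algebraMap R S))) M := by
  refine H2Vanishes_of_localization (kerFam (g'.comp (algebraMap R S))) S p M ?_
  refine (H2Vanishes_iff_kerFam g' M ?_).mp h
  have h1 : Set.range (rLoc (kerFam (g'.comp (algebraMap R S))) S) =
      algebraMap R S '' (RingHom.ker (g'.comp (algebraMap R S)) : Set R) := by
    ext x
    constructor
    · rintro ⟨s, rfl⟩
      exact ⟨s.1, s.2, rfl⟩
    · rintro ⟨y, hy, rfl⟩
      exact ⟨⟨y, hy⟩, rfl⟩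
  rw [h1, ← Ideal.map_span, Ideal.span_eq, ← RingHom.comap_ker, IsLocalization.map_comap p S]

end Loc

section AddVars

variable {A : Type*} [CommRing A] {B : Type*} [CommRing B] (ρA : A →+* B) {κ : Type*} (c : κ → A)

lemma eval_shift (q : MvPolynomial κ A) : eval c (shift c q) = constantCoeff q := by
  have : (eval c).comp (shift c : MvPolynomial κ A →+* MvPolynomial κ A) = constantCoeff := by
    refine MvPolynomial.ringHom_ext (fun a => ?_) (fun k => ?_)
    · simp
    · simp
  exact RingHom.congr_fun this q

variable (M : Type*) [AddCommGroup M] [Module B M] [Module A M] [Module (MvPolynomial κ A) M]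

/-- Adding variables evaluated at elements of the ring does not affect vanishing. -/
theorem H2Vanishes_kerFam_addVars (hcA : ∀ (a : A) (m : M), ρA a • m = a • m)
    (hcY : ∀ (q : MvPolynomial κ A) (m : M), ρA (eval c q) • m = q • m)
    (h : H2Vanishes (kerFam ρA) M) : H2Vanishes (kerFam (ρA.comp (eval c))) M := by
  let _ : Algebra A B := ρA.toAlgebra
  let _ : Algebra (MvPolynomial κ A) B := (ρA.comp (eval c)).toAlgebra
  have _ : IsScalarTower A B M := IsScalarTower.of_algebraMap_smul fun a m => hcA a m
  have _ : IsScalarTower (MvPolynomial κ A) B M :=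
    IsScalarTower.of_algebraMap_smul fun q m => hcY q m
  let E : MvPolynomial κ A ≃+* MvPolynomial PEmpty.{1} (MvPolynomial κ A) :=
    (shift c).toRingEquiv.trans (isEmptyRingEquiv (MvPolynomial κ A) PEmpty.{1}).symm
  have hE : ∀ q, algebraMap (MvPolynomial κ A) B (constantCoeff (E q)) =
      algebraMap A B (constantCoeff q) := by
    intro q
    have h1 : E q = C (shift c q) := rfl
    rw [h1, constantCoeff_C]
    change ρA (eval c (shift c q)) = ρA (constantCoeff q)
    rw [eval_shift]
  obtain ⟨e⟩ := nonempty_H2_equiv (kerFam ρA) (kerFam (ρA.comp (eval c))) M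
    (span_range_kerFam ρA).symm (span_range_kerFam (ρA.comp (eval c))).symm PEmpty.{1} κ E hE
  rw [← subsingleton_H2_iff _ M B] at h ⊢
  exact e.symm.toEquiv.subsingleton

end AddVars

end

end Groth.Agent.Lib.Helper97.CotT2
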