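import Mathlib

/-!
# `Ext¹` of a module from one step of a projective presentation, linearly

For a surjection `f : L → N` of `B`-modules with `L` projective and `K = ker f`,
`Ext¹_B(N, M) ≃ₗ[B] Hom_B(K, M) / (restrictions of maps L → M)`.
-/

set_option autoImplicit false

namespace Groth.Agent.Lib.Helper97.CotT2

open CategoryTheory Abelian

noncomputable section

universe u

variable {B : Type u} [CommRing B] {L N : Type u} [AddCommGroup L] [Module B L]
  [AddCommGroup N] [Module B N] (M : Type u) [AddCommGroup M] [Module B M]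

theorem nonempty_ext_one_equiv [Module.Projective B L] (f : L →ₗ[B] N)
    (hf : Function.Surjective f) :
    Nonempty (((LinearMap.ker f →ₗ[B] M) ⧸
        LinearMap.range (LinearMap.lcomp B M (LinearMap.ker f).subtype)) ≃ₗ[B]
      Ext (ModuleCat.of B N) (ModuleCat.of B M) 1) := by
  let S : ShortComplex (ModuleCat.{u} B) := f.shortComplexKer
  have hS : S.ShortExact := LinearMap.shortExact_shortComplexKer hf
  let Y : ModuleCat.{u} B := ModuleCat.of B M
  have hproj : Projective S.X₂ := by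
    change Projective (ModuleCat.of B L)
    infer_instance
  -- the connecting map
  let δ : (LinearMap.ker f →ₗ[B] M) →ₗ[B] Ext S.X₃ Y 1 :=
    (Ext.precompOfLinear hS.extClass B Y (add_zero 1)) ∘ₗ
      (Ext.linearEquiv₀ (R := B) (X := S.X₁) (Y := Y)).symm.toLinearMap ∘ₗ
      (ModuleCat.homLinearEquiv (S := B) (M := S.X₁) (N := Y)).symm.toLinearMap
  have hδ : ∀ χ : LinearMap.ker f →ₗ[B] M,
      δ χ = hS.extClass.comp (Ext.mk₀ (ModuleCat.ofHom χ : S.X₁ ⟶ Y)) (add_zero 1) := fun χ => rfl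
  have hsurj : Function.Surjective δ := by
    intro x₃
    have h0 : (Ext.mk₀ S.g).comp x₃ (zero_add 1) = 0 := Ext.eq_zero_of_projective _
    obtain ⟨x₁, hx₁⟩ := Ext.contravariant_sequence_exact₃ hS Y x₃ h0 (add_zero 1)
    refine ⟨(Ext.homEquiv₀ x₁).hom, ?_⟩
    rw [hδ, ← hx₁]
    congr 1
    have : (ModuleCat.ofHom (Ext.homEquiv₀ x₁).hom : S.X₁ ⟶ Y) = Ext.homEquiv₀ x₁ := rfl
    rw [this]
    exact Ext.homEquiv₀.symm_apply_apply x₁
  have hker : LinearMap.ker δ =
      LinearMap.range (LinearMap.lcomp B M (LinearMap.ker f).subtype) := by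
    ext χ
    rw [LinearMap.mem_ker, LinearMap.mem_range, hδ]
    constructor
    · intro h
      obtain ⟨x₂, hx₂⟩ := Ext.contravariant_sequence_exact₁ hS Y
        (Ext.mk₀ (ModuleCat.ofHom χ : S.X₁ ⟶ Y)) (add_zero 1) h
      refine ⟨(Ext.homEquiv₀ x₂).hom, ?_⟩
      have h1 : x₂ = Ext.mk₀ (Ext.homEquiv₀ x₂) := (Ext.homEquiv₀.symm_apply_apply x₂).symm
      rw [h1, Ext.mk₀_comp_mk₀] at hx₂
      have h2 := Ext.homEquiv₀.symm.injective hx₂
      have h3 := congrArg ModuleCat.Hom.hom h2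
      exact h3
    · rintro ⟨φ, rfl⟩
      have : (ModuleCat.ofHom (LinearMap.lcomp B M (LinearMap.ker f).subtype φ) : S.X₁ ⟶ Y) =
          S.f ≫ (ModuleCat.ofHom φ : S.X₂ ⟶ Y) := rfl
      rw [this, ← Ext.mk₀_comp_mk₀, ← Ext.comp_assoc_of_third_deg_zero, hS.extClass_comp,
        Ext.zero_comp]
  exact ⟨(Submodule.quotEquivOfEq _ _ hker.symm).trans (LinearMap.quotKerEquivOfSurjective δ hsurj)⟩

end

end Groth.Agent.Lib.Helper97.CotT2
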