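import Groth.Agent.Lib.Helper97.CotT2.LocalC1

/-!
# Globalizing: relations with coefficients in a locally regular ideal are trivial
-/

set_option autoImplicit false

namespace Groth.Agent.Lib.Helper97.CotT2

open Finsupp

noncomputable section

universe uR uσ

variable {R : Type uR} [CommRing R] {σ : Type uσ} (r : σ → R)

section MapRange

variable {S : Type*} [CommRing S] (g : R →+* S)

lemma jm_mapRange (q : σ →₀ R) :
    jm (fun s => g (r s)) (Finsupp.mapRange g (map_zero g) q) = g (jm r q) := by
  induction q using Finsupp.induction_linear with
  | zero => simp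
  | add f f' hf hf' =>
    rw [Finsupp.mapRange_add (map_add g), map_add, map_add, hf, hf', map_add]
  | single s x =>
    rw [Finsupp.mapRange_single, jm_single, jm_single, map_mul]

end MapRange

section Localized

variable (S : Type*) [CommRing S] [Algebra R S] (p : Submonoid R) [IsLocalization p S]

/-- The localization map on the free modules. -/
abbrev locMap : (σ →₀ R) →ₗ[R] (σ →₀ S) :=
  Finsupp.mapRange.linearMap (Algebra.linearMap R S)

lemma locMap_apply (q : σ →₀ R) :
    locMap (σ := σ) S q = Finsupp.mapRange (algebraMap R S) (map_zero _) q := rfl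

/-- The trivial relations of the localized family lie in the localization of the trivial
relations. -/
lemma F0_map_le_localized' :
    F0 (fun s => algebraMap R S (r s)) ≤ (F0 r).localized' S p (locMap (σ := σ) S) := by
  refine Submodule.span_le.mpr ?_
  rintro _ ⟨a, b, rfl⟩
  change _ ∈ (F0 r).localized' S p (locMap (σ := σ) S)
  induction a using Finsupp.induction_linear with
  | zero => simp
  | add a a' ha ha' =>
    have : jm (fun s => algebraMap R S (r s)) (a + a') • b
        - jm (fun s => algebraMap R S (r s)) b • (a + a')
        = (jm (fun s => algebraMap R S (r s)) a • b - jm (fun s => algebraMap R S (r s)) b • a)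
        + (jm (fun s => algebraMap R S (r s)) a' • b
          - jm (fun s => algebraMap R S (r s)) b • a') := by
      rw [map_add, add_smul, smul_add]
      abel
    rw [this]
    exact Submodule.add_mem _ ha ha'
  | single s x =>
    induction b using Finsupp.induction_linear with
    | zero => simp
    | add b b' hb hb' =>
      have : jm (fun s => algebraMap R S (r s)) (Finsupp.single s x) • (b + b')
          - jm (fun s => algebraMap R S (r s)) (b + b') • Finsupp.single s x
          = (jm (fun s => algebraMap R S (r s)) (Finsupp.single s x) • b
            - jm (fun s => algebraMap R S (r s)) b • Finsupp.single s x)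
          + (jm (fun s => algebraMap R S (r s)) (Finsupp.single s x) • b'
            - jm (fun s => algebraMap R S (r s)) b' • Finsupp.single s x) := by
        rw [map_add, add_smul, smul_add]
        abel
      rw [this]
      exact Submodule.add_mem _ hb hb'
    | single t y =>
      have key : jm (fun s => algebraMap R S (r s)) (Finsupp.single s x) • Finsupp.single t y
          - jm (fun s => algebraMap R S (r s)) (Finsupp.single t y) • Finsupp.single s x
          = (x * y) • locMap (σ := σ) S
              (jm r (Finsupp.single s (1 : R)) • Finsupp.single t (1 : R)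
                - jm r (Finsupp.single t (1 : R)) • Finsupp.single s (1 : R)) := by
        rw [jm_single, jm_single, jm_single, jm_single, one_mul, one_mul, map_sub,
          locMap_apply, locMap_apply, Finsupp.smul_single, Finsupp.smul_single,
          Finsupp.smul_single, Finsupp.smul_single, Finsupp.mapRange_single,
          Finsupp.mapRange_single, smul_sub, Finsupp.smul_single, Finsupp.smul_single]
        simp only [smul_eq_mul, mul_one]
        congr 1 <;> congr 1 <;> ring
      rw [key]
      refine Submodule.smul_mem _ _ ?_
      exact ⟨_, triv_mem_F0 r _ _, 1, IsLocalizedModule.mk'_one p _ _⟩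

end Localized

/-- **Global triviality**: if at every maximal ideal containing `I = (r)` the extension of `I` to
the local ring is generated by a weakly regular sequence, then every relation with coefficients in
`I` is trivial. -/
theorem mem_F0_of_locally_regular
    (hloc : ∀ (m : Ideal R) [m.IsMaximal], Ideal.span (Set.range r) ≤ m →
      ∃ rs : List (Localization.AtPrime m),
        RingTheory.Sequence.IsWeaklyRegular (Localization.AtPrime m) rs ∧
        Ideal.ofList rs = (Ideal.span (Set.range r)).map (algebraMap R (Localization.AtPrime m)))
    {q : σ →₀ R} (hq : q ∈ Q r) (hI : ∀ s, q s ∈ Ideal.span (Set.range r)) : q ∈ F0 r := by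
  by_contra hne
  -- the colon ideal
  let J : Ideal R := (F0 r).comap (LinearMap.toSpanSingleton R (σ →₀ R) q)
  have hJ : ∀ t : R, t ∈ J ↔ t • q ∈ F0 r := fun t => Iff.rfl
  have hJtop : J ≠ ⊤ := by
    intro h
    have : (1 : R) ∈ J := h ▸ Submodule.mem_top
    rw [hJ, one_smul] at this
    exact hne this
  obtain ⟨m, hm, hJm⟩ := Ideal.exists_le_maximal J hJtop
  have hIm : Ideal.span (Set.range r) ≤ m := fun x hx => hJm ((hJ x).mpr (smul_mem_F0 r hx hq))
  obtain ⟨rs, hrs, hrsI⟩ := hloc m hIm
  let S := Localization.AtPrime m
  let r' : σ → S := fun s => algebraMap R S (r s)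
  have hspan : Ideal.span (Set.range r') =
      (Ideal.span (Set.range r)).map (algebraMap R S) := by
    rw [Ideal.map_span, ← Set.range_comp]
    rfl
  have hq' : locMap (σ := σ) S q ∈ Q r' := by
    rw [mem_Q, locMap_apply, jm_mapRange r (algebraMap R S) q, (mem_Q r).mp hq, map_zero]
  have hI' : ∀ s, locMap (σ := σ) S q s ∈ Ideal.span (Set.range r') := by
    intro s
    rw [hspan]
    exact Ideal.mem_map_of_mem _ (hI s)
  have hmem : locMap (σ := σ) S q ∈ F0 r' :=
    mem_F0_of_isWeaklyRegular r' rs hrs (hrsI.trans hspan.symm) hq' hI'
  obtain ⟨n, hn, t, hnt⟩ := F0_map_le_localized' r S m.primeCompl hmem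
  rw [IsLocalizedModule.mk'_eq_iff, Submonoid.smul_def, ← map_smul, ← sub_eq_zero, ← map_sub,
    IsLocalizedModule.eq_zero_iff m.primeCompl] at hnt
  obtain ⟨c, hc⟩ := hnt
  have hmem2 : ((c : R) * (t : R)) ∈ J := by
    rw [hJ]
    rw [Submonoid.smul_def, smul_sub, sub_eq_zero] at hc
    rw [mul_smul, ← hc]
    exact Submodule.smul_mem _ _ hn
  exact (c * t).2 (hJm hmem2)

end

end Groth.Agent.Lib.Helper97.CotT2
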