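import Groth.Agent.Lib.Helper97.CotT2.LocalC1

/-!
# If all relations among elements of the maximal ideal of a Noetherian local ring are trivial,
the elements form a regular sequence
-/

set_option autoImplicit false

namespace Groth.Agent.Lib.Helper97.CotT2

open Finsupp IsLocalRing

noncomputable section

variable {A : Type*} [CommRing A]

section Last

variable {n : ℕ} (r : Fin (n + 1) → A)

/-- The first `n` members. -/
abbrev rInit : Fin n → A := fun i => r i.castSucc

/-- The embedding of the free module on the first `n` basis vectors. -/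
abbrev emb : (Fin n →₀ A) →ₗ[A] (Fin (n + 1) →₀ A) := Finsupp.lmapDomain A A Fin.castSucc

/-- Forgetting the last coefficient. -/
abbrev res : (Fin (n + 1) →₀ A) →ₗ[A] (Fin n →₀ A) :=
  Finsupp.lcomapDomain Fin.castSucc (Fin.castSucc_injective n)

lemma res_apply (f : Fin (n + 1) →₀ A) (i : Fin n) : res f i = f i.castSucc := rfl

lemma res_emb (a : Fin n →₀ A) : res (emb a) = a :=
  Finsupp.comapDomain_mapDomain Fin.castSucc (Fin.castSucc_injective n) a

lemma emb_last (a : Fin n →₀ A) : emb a (Fin.last n) = 0 := by
  refine Finsupp.mapDomain_of_notMem_range _ _ ?_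
  rintro ⟨i, hi⟩
  exact (Fin.castSucc_lt_last i).ne hi

lemma jm_emb (a : Fin n →₀ A) : jm r (emb a) = jm (rInit r) a := by
  induction a using Finsupp.induction_linear with
  | zero => simp
  | add f g hf hg => rw [map_add, map_add, hf, hg, map_add]
  | single s x =>
    rw [Finsupp.lmapDomain_apply, Finsupp.mapDomain_single, jm_single, jm_single]

/-- Splitting off the last coefficient. -/
lemma jm_eq (a : Fin (n + 1) →₀ A) :
    jm r a = jm (rInit r) (res a) + a (Fin.last n) * r (Fin.last n) := by
  induction a using Finsupp.induction_linear with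
  | zero => simp
  | add f g hf hg =>
    rw [map_add, map_add, map_add, hf, hg, Finsupp.add_apply]
    ring
  | single s x =>
    induction s using Fin.lastCases with
    | last =>
      have : res (Finsupp.single (Fin.last n) x) = 0 := by
        ext i
        rw [res_apply, Finsupp.single_eq_of_ne (Fin.castSucc_lt_last i).ne]
        rfl
      rw [this, map_zero, zero_add, jm_single, Finsupp.single_eq_same]
    | cast j =>
      have : res (Finsupp.single j.castSucc x) = Finsupp.single j x := by
        ext i
        rw [res_apply, Finsupp.single_apply, Finsupp.single_apply]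
        simp only [Fin.castSucc_inj]
      rw [this, jm_single, jm_single,
        Finsupp.single_eq_of_ne (Fin.castSucc_lt_last j).ne', zero_mul, add_zero]

/-- The structure of the trivial relations with respect to the last member. -/
lemma exists_of_mem_F0 {t : Fin (n + 1) →₀ A} (ht : t ∈ F0 r) :
    ∃ u ∈ F0 (rInit r), ∃ w : Fin n →₀ A,
      res t = u + r (Fin.last n) • w ∧ jm (rInit r) w = - t (Fin.last n) := by
  induction ht using Submodule.span_induction with
  | mem x hx =>
    obtain ⟨a, b, rfl⟩ := hx
    refine ⟨jm (rInit r) (res a) • res b - jm (rInit r) (res b) • res a, triv_mem_F0 _ _ _,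
      a (Fin.last n) • res b - b (Fin.last n) • res a, ?_, ?_⟩
    · rw [map_sub, map_smul, map_smul, jm_eq r a, jm_eq r b]
      module
    · rw [map_sub, map_smul, map_smul, Finsupp.sub_apply, Finsupp.smul_apply, Finsupp.smul_apply,
        jm_eq r a, jm_eq r b]
      simp only [smul_eq_mul]
      ring
  | zero => exact ⟨0, Submodule.zero_mem _, 0, by simp, by simp⟩
  | add x y _ _ hx hy =>
    obtain ⟨u, hu, w, h1, h2⟩ := hx
    obtain ⟨u', hu', w', h1', h2'⟩ := hy
    refine ⟨u + u', Submodule.add_mem _ hu hu', w + w', ?_, ?_⟩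
    · rw [map_add, h1, h1', smul_add]
      abel
    · rw [map_add, h2, h2', Finsupp.add_apply]
      ring
  | smul c x _ hx =>
    obtain ⟨u, hu, w, h1, h2⟩ := hx
    refine ⟨c • u, Submodule.smul_mem _ _ hu, c • w, ?_, ?_⟩
    · rw [map_smul, h1, smul_add, smul_comm]
    · rw [map_smul, h2, Finsupp.smul_apply, smul_eq_mul, smul_eq_mul, mul_neg]

/-- The last member is a non-zero-divisor modulo the previous ones. -/
lemma mem_span_of_mul_mem (h : Q r ≤ F0 r) {c : A}
    (hc : r (Fin.last n) * c ∈ Ideal.span (Set.range (rInit r))) :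
    c ∈ Ideal.span (Set.range (rInit r)) := by
  obtain ⟨a', ha'⟩ := Finsupp.mem_span_range_iff_exists_finsupp.mp hc
  have ha'' : jm (rInit r) a' = r (Fin.last n) * c := by
    rw [← ha', jm, Finsupp.linearCombination_apply]
  have hq : Finsupp.single (Fin.last n) c - emb a' ∈ Q r := by
    rw [mem_Q, map_sub, jm_single, jm_emb, ha'', mul_comm, sub_self]
  obtain ⟨u, _, w, _, h2⟩ := exists_of_mem_F0 r (h hq)
  rw [Finsupp.sub_apply, Finsupp.single_eq_same, emb_last, sub_zero] at h2
  have h3 : c = - jm (rInit r) w := by rw [h2, neg_neg]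
  rw [h3]
  refine Submodule.neg_mem _ ?_
  rw [jm, Finsupp.linearCombination_apply]
  exact Finsupp.mem_span_range_iff_exists_finsupp.mpr ⟨w, rfl⟩

/-- The relations among the first `n` members are trivial modulo `r_last • Q`. -/
lemma Q_rInit_le (h : Q r ≤ F0 r) :
    Q (rInit r) ≤ F0 (rInit r) ⊔ Ideal.span {r (Fin.last n)} • Q (rInit r) := by
  intro q' hq'
  have hq : emb q' ∈ Q r := by
    rw [mem_Q, jm_emb]
    exact (mem_Q _).mp hq'
  obtain ⟨u, hu, w, h1, h2⟩ := exists_of_mem_F0 r (h hq)
  rw [res_emb] at h1
  rw [emb_last, neg_zero] at h2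
  rw [h1]
  refine Submodule.add_mem_sup hu ?_
  exact Submodule.smul_mem_smul (Ideal.mem_span_singleton_self _) ((mem_Q _).mpr h2)

end Last

/-- **Trivial relations imply regular sequence** (Noetherian local ring, elements of the maximal
ideal). -/
theorem isWeaklyRegular_ofFn_of_Q_le_F0 [IsLocalRing A] [IsNoetherianRing A] :
    ∀ (n : ℕ) (r : Fin n → A), (∀ i, r i ∈ maximalIdeal A) → Q r ≤ F0 r →
      RingTheory.Sequence.IsWeaklyRegular A (List.ofFn r) := by
  intro n
  induction n with
  | zero =>
    intro r _ _
    rw [List.ofFn_zero]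
    exact RingTheory.Sequence.IsWeaklyRegular.nil A A
  | succ n ih =>
    intro r hr h
    have h' : Q (rInit r) ≤ F0 (rInit r) := by
      refine Submodule.le_of_le_smul_of_le_jacobson_bot (I := Ideal.span {r (Fin.last n)})
        (IsNoetherian.noetherian _) ?_ (Q_rInit_le r h)
      rw [IsLocalRing.jacobson_eq_maximalIdeal ⊥ bot_ne_top, Ideal.span_le,
        Set.singleton_subset_iff]
      exact hr _
    have ih' := ih (rInit r) (fun i => hr _) h'
    rw [List.ofFn_succ', List.concat_eq_append,
      RingTheory.Sequence.isWeaklyRegular_append_iff]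
    refine ⟨ih', ?_⟩
    rw [RingTheory.Sequence.isWeaklyRegular_singleton_iff,
      isSMulRegular_iff_right_eq_zero_of_smul]
    intro m hm
    induction m using Submodule.Quotient.induction_on with
    | H c =>
      have hofn : Ideal.ofList (List.ofFn (rInit r)) = Ideal.span (Set.range (rInit r)) := by
        change Ideal.span {x | x ∈ List.ofFn (rInit r)} = _
        congr 1
        ext x
        exact List.mem_ofFn' _ _
      rw [← Submodule.Quotient.mk_smul, Submodule.Quotient.mk_eq_zero, ideal_smul_top, hofn,
        smul_eq_mul] at hm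
      rw [Submodule.Quotient.mk_eq_zero, ideal_smul_top, hofn]
      exact mem_span_of_mul_mem r h hm

end

end Groth.Agent.Lib.Helper97.CotT2
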