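import Groth.Agent.Lib.Helper97.CotT2.T2Indep
import Groth.Agent.Lib.Helper97.CotT2.ChangeRing

/-!
# Vanishing of `CotT.T2` in terms of the elementary Hom-model over any polynomial ring
-/

set_option autoImplicit false

namespace Groth.Agent.Lib.Helper97.CotT2

open MvPolynomial

noncomputable section

variable {k B : Type*} [CommRing k] [CommRing B] [Algebra k B] {ι σ : Type*}

/-- `T²` of a presentation vanishes iff the Hom-model for its own ring and relations does. -/
theorem subsingleton_T2_iff_self (P : Algebra.Presentation k B ι σ)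
    (M : Type*) [AddCommGroup M] [Module B M] [Module P.toExtension.Ring M]
    [IsScalarTower P.toExtension.Ring B M] :
    Subsingleton (CotT.T2 P M) ↔ H2Vanishes (CotT.rel P) M :=
  (bridge P M).toEquiv.subsingleton_congr.trans (subsingleton_H2_iff (CotT.rel P) M B)

/-- `T²` of a presentation vanishes iff the Hom-model does, for any polynomial ring over the base
mapping onto the algebra and any family generating the kernel. -/
theorem subsingleton_T2_iff_H2Vanishes (P : Algebra.Presentation k B ι σ)
    (M : Type*) [AddCommGroup M] [Module B M]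
    {ι' σ' : Type*} (r' : σ' → MvPolynomial ι' k)
    (f : MvPolynomial ι' k →ₐ[k] B) (hf : Function.Surjective f)
    (hr' : RingHom.ker (f : MvPolynomial ι' k →+* B) = Ideal.span (Set.range r'))
    [i3 : Module (MvPolynomial ι' k) M] (hc : ∀ (x : MvPolynomial ι' k) (m : M), f x • m = x • m) :
    Subsingleton (CotT.T2 P M) ↔ H2Vanishes r' M := by
  let a1 : Algebra (MvPolynomial ι k) B := P.toExtension.algebra₂
  have s1 : @IsScalarTower k (MvPolynomial ι k) B _ a1.toSMul _ :=
    inferInstanceAs (IsScalarTower k P.toExtension.Ring B)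
  let a2 : Algebra (MvPolynomial ι' k) B := (f : MvPolynomial ι' k →+* B).toAlgebra
  have s2 : @IsScalarTower k (MvPolynomial ι' k) B _ a2.toSMul _ :=
    letI := a2; IsScalarTower.of_algebraMap_eq fun x => (f.commutes x).symm
  let i1 : Module (MvPolynomial ι k) M := Module.compHom M (@algebraMap (MvPolynomial ι k) B _ _ a1)
  have i2 : @IsScalarTower (MvPolynomial ι k) B M a1.toSMul _ i1.toSMul :=
    letI := a1; letI := i1; IsScalarTower.of_algebraMap_smul fun _ _ => rfl
  have i4 : @IsScalarTower (MvPolynomial ι' k) B M a2.toSMul _ i3.toSMul :=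
    letI := a2; IsScalarTower.of_algebraMap_smul fun x m => hc x m
  obtain ⟨e⟩ := @nonempty_H2_equiv_mvPolynomial k B _ _ _ ι ι' σ σ' a1 s1 a2 s2
      M _ _ i1 i2 i3 i4 P.algebraMap_surjective hf
      (CotT.rel P) r' (ker_eq_span_rel P) hr'
  exact ((@bridge k B ι σ _ _ _ P M _ _ i1 i2).toEquiv.subsingleton_congr.trans
    e.toEquiv.subsingleton_congr).trans (subsingleton_H2_iff r' M B)

end

end Groth.Agent.Lib.Helper97.CotT2
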