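import Groth.Agent.Lib.Helper97.CotT2.Congr
import Groth.Agent.Lib.Helper97.CotT2.T2Vanish
import Mathlib.RingTheory.MvPolynomial.Localization

/-!
# `T²` of an essentially finite type algebra via a localization of a polynomial ring

If `A` is a localization of a polynomial ring `k[n]` and `ρA : A → C` is a surjection of `k`-algebras
whose Hom-model `H2` (for the family of all elements of the kernel) vanishes on `M`, then
`T²(C/k, M) = 0` for any presentation of `C` over `k`.
-/

set_option autoImplicit false

namespace Groth.Agent.Lib.Helper97.CotT2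

open MvPolynomial

noncomputable section

variable {k : Type*} [CommRing k] {C' : Type*} [CommRing C'] [Algebra k C'] {ι σ : Type*}

theorem subsingleton_T2_of_localization (P : Algebra.Presentation k C' ι σ)
    (M : Type*) [AddCommGroup M] [Module C' M]
    {n : Type*} (p : Submonoid (MvPolynomial n k)) (A : Type*) [CommRing A]
    [Algebra (MvPolynomial n k) A] [IsLocalization p A]
    (ρA : A →+* C') (hρA : Function.Surjective ρA)
    [Module A M] (hcA : ∀ (a : A) (m : M), ρA a • m = a • m)
    (hk : ∀ x : k, ρA (algebraMap (MvPolynomial n k) A (C x)) = algebraMap k C' x)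
    (h : H2Vanishes (kerFam ρA) M) : Subsingleton (CotT.T2 P M) := by
  -- Step 1: add the variables `Y_s`, `s ∈ p`, evaluated at `1/s`.
  let c : p → A := fun s => IsLocalization.mk' A 1 s
  let g' : MvPolynomial p A →+* C' := ρA.comp (eval c)
  let _ : Module (MvPolynomial p A) M := Module.compHom M g'
  have h1 : H2Vanishes (kerFam g') M :=
    H2Vanishes_kerFam_addVars ρA c M hcA (fun _ _ => rfl) h
  -- Step 2: descend along the localization `k[n][Y] → A[Y]`.
  let _ : Algebra (MvPolynomial p (MvPolynomial n k)) (MvPolynomial p A) :=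
    MvPolynomial.algebraMvPolynomial
  have _ : IsLocalization (p.map (C (σ := p))) (MvPolynomial p A) :=
    MvPolynomial.isLocalization p A
  let g'' : MvPolynomial p (MvPolynomial n k) →+* C' :=
    g'.comp (algebraMap (MvPolynomial p (MvPolynomial n k)) (MvPolynomial p A))
  let _ : Module (MvPolynomial p (MvPolynomial n k)) M := Module.compHom M g''
  have _ : IsScalarTower (MvPolynomial p (MvPolynomial n k)) (MvPolynomial p A) M :=
    IsScalarTower.of_algebraMap_smul fun _ _ => rfl
  have h2 : H2Vanishes (kerFam g'') M :=
    H2Vanishes_kerFam_of_localization (MvPolynomial p A) (p.map (C (σ := p))) g' M h1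
  -- Step 3: flatten the polynomial ring.
  let e : MvPolynomial (p ⊕ n) k ≃ₐ[k] MvPolynomial p (MvPolynomial n k) := sumAlgEquiv k p n
  have hg''k : ∀ x : k, g'' (algebraMap k _ x) = algebraMap k C' x := by
    intro x
    have : g'' (algebraMap k _ x) = ρA (algebraMap (MvPolynomial n k) A (C x)) := by
      change ρA (eval c (MvPolynomial.map (algebraMap (MvPolynomial n k) A)
        (algebraMap k (MvPolynomial p (MvPolynomial n k)) x))) = _
      have hx : algebraMap k (MvPolynomial p (MvPolynomial n k)) x = C (C x) := by
        rw [IsScalarTower.algebraMap_apply k (MvPolynomial n k)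
          (MvPolynomial p (MvPolynomial n k))]
        rfl
      rw [hx, map_C, eval_C]
    rw [this, hk]
  let f : MvPolynomial (p ⊕ n) k →ₐ[k] C' :=
    { toRingHom := g''.comp (e : MvPolynomial (p ⊕ n) k →+* MvPolynomial p (MvPolynomial n k))
      commutes' := fun x => by
        change g'' (e (algebraMap k _ x)) = _
        rw [e.commutes, hg''k] }
  have hfe : ∀ x, f x = g'' (e x) := fun _ => rfl
  let _ : Module (MvPolynomial (p ⊕ n) k) M := Module.compHom M (f : MvPolynomial (p ⊕ n) k →+* C')
  have h3 : H2Vanishes (kerFam (f : MvPolynomial (p ⊕ n) k →+* C')) M := by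
    refine (H2Vanishes_of_ringEquiv e.toRingEquiv M ?_ ?_ (fun _ _ => rfl)).mp h2
    · intro s
      rw [span_range_kerFam]
      exact s.2
    · intro s'
      rw [span_range_kerFam, RingHom.mem_ker]
      change f (e.symm s'.1) = 0
      rw [hfe, e.apply_symm_apply]
      exact s'.2
  -- Step 4: conclude.
  have hf : Function.Surjective f := by
    intro y
    obtain ⟨a, rfl⟩ := hρA y
    obtain ⟨x, s, rfl⟩ := IsLocalization.exists_mk'_eq p a
    refine ⟨e.symm (C x * X s), ?_⟩
    rw [hfe, e.apply_symm_apply]
    change ρA (eval c (MvPolynomial.map (algebraMap (MvPolynomial n k) A) (C x * X s))) = _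
    congr 1
    rw [map_mul, map_C, map_X, map_mul, eval_C, eval_X]
    change algebraMap (MvPolynomial n k) A x * IsLocalization.mk' A 1 s = _
    rw [IsLocalization.mul_mk'_eq_mk'_of_mul, mul_one]
  exact (subsingleton_T2_iff_H2Vanishes P M (kerFam (f : MvPolynomial (p ⊕ n) k →+* C')) f hf
    (span_range_kerFam _).symm (fun _ _ => rfl)).mpr h3

end

end Groth.Agent.Lib.Helper97.CotT2
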