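import Groth.Agent.Lib.Helper97.CotT2.Constr
import Groth.Agent.Lib.Helper97.CotT2.RegSeq

/-!
# Relations with coefficients in the ideal are trivial when the ideal is locally generated by a
regular sequence

For a family `r : σ → R` generating the ideal `I`, a relation `q ∈ Q r` all of whose coefficients
lie in `I` is a trivial relation as soon as, at every maximal ideal containing `I`, the extension
of `I` to the local ring is generated by a weakly regular sequence.
-/

set_option autoImplicit false

namespace Groth.Agent.Lib.Helper97.CotT2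

open Finsupp

noncomputable section

universe uR uσ

/-- `p / (p ∩ p')` for submodules of an abstract module (stated abstractly to help instance
search). -/
abbrev subQuot {R : Type*} [CommRing R] {M : Type*} [AddCommGroup M] [Module R M]
    (p p' : Submodule R M) : Type _ :=
  p ⧸ p'.comap p.subtype

variable {R : Type uR} [CommRing R] {σ : Type uσ} (r : σ → R)

/-- `I • Q ⊆ F₀`. -/
lemma smul_mem_F0 {x : R} (hx : x ∈ Ideal.span (Set.range r)) {q : σ →₀ R} (hq : q ∈ Q r) :
    x • q ∈ F0 r := by
  obtain ⟨c, hc⟩ := Finsupp.mem_span_range_iff_exists_finsupp.mp hx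
  have hc' : jm r c = x := by rw [← hc, jm, Finsupp.linearCombination_apply]
  have := triv_mem_F0 r c q
  rwa [hc', (mem_Q r).mp hq, zero_smul, sub_zero] at this

/-- The module `Q/F₀`. -/
abbrev HQ : Type (max uR uσ) := subQuot (Q r) (F0 r)

lemma smul_HQ_eq_zero {x : R} (hx : x ∈ Ideal.span (Set.range r)) (m : HQ r) : x • m = 0 := by
  induction m using Submodule.Quotient.induction_on with
  | H q =>
    rw [← Submodule.Quotient.mk_smul, Submodule.Quotient.mk_eq_zero]
    exact smul_mem_F0 r hx q.2

/-- If `H2` with coefficients in `Q/F₀` vanishes, then relations with coefficients in `I` are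
trivial. -/
theorem mem_F0_of_subsingleton_H2 (h : Subsingleton (H2 r (HQ r) R)) {q : σ →₀ R} (hq : q ∈ Q r)
    (hI : ∀ s, q s ∈ Ideal.span (Set.range r)) : q ∈ F0 r := by
  let φ : Q r →ₗ[R] HQ r := Submodule.mkQ _
  have hφ : ∀ q' : Q r, (q' : σ →₀ R) ∈ F0 r → φ q' = 0 := fun q' hq' =>
    (Submodule.Quotient.mk_eq_zero _).mpr hq'
  let z : Z r (HQ r) R := ⟨φ, hφ⟩
  have hz : (Submodule.Quotient.mk z : H2 r (HQ r) R) = 0 := Subsingleton.elim _ _
  rw [Submodule.Quotient.mk_eq_zero] at hz
  obtain ⟨ψ, hψ⟩ := hz
  have h1 : ψ q = 0 := by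
    conv_lhs => rw [← Finsupp.sum_single q]
    rw [Finsupp.sum, map_sum]
    refine Finset.sum_eq_zero fun s _ => ?_
    rw [← Finsupp.smul_single_one, map_smul]
    exact smul_HQ_eq_zero r (hI s) _
  have h2 := hψ ⟨q, hq⟩
  rw [h1] at h2
  have h3 : (Submodule.Quotient.mk (⟨q, hq⟩ : Q r) : HQ r) = 0 := h2
  rw [Submodule.Quotient.mk_eq_zero] at h3
  exact h3

/-- If the ideal is generated by a weakly regular sequence, relations with coefficients in `I` are
trivial. -/
theorem mem_F0_of_isWeaklyRegular (rs : List R) (hrs : RingTheory.Sequence.IsWeaklyRegular R rs)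
    (h : Ideal.ofList rs = Ideal.span (Set.range r)) {q : σ →₀ R} (hq : q ∈ Q r)
    (hI : ∀ s, q s ∈ Ideal.span (Set.range r)) : q ∈ F0 r := by
  refine mem_F0_of_subsingleton_H2 r ?_ hq hI
  have hrange : Set.range (fun i : Fin rs.length => rs.get i) = {x | x ∈ rs} := Set.range_list_get rs
  have h0 : Subsingleton (H2 (fun i : Fin rs.length => rs.get i) (HQ r) R) :=
    subsingleton_H2_of_Q_le_F0 _ _ R (Q_le_F0_of_isWeaklyRegular rs hrs)
  obtain ⟨e⟩ := nonempty_equiv_of_ringEquiv (r := r) (r' := fun i : Fin rs.length => rs.get i)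
    (M := HQ r) R (RingEquiv.refl R)
    (fun s => by
      rw [hrange]
      change r s ∈ Ideal.ofList rs
      rw [h]
      exact Ideal.subset_span ⟨s, rfl⟩)
    (fun i => by
      rw [← h]
      exact Ideal.subset_span (List.get_mem rs i))
    (fun _ _ => rfl)
  exact e.symm.toEquiv.subsingleton

end

end Groth.Agent.Lib.Helper97.CotT2
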