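import Groth.Agent.Lib.Helper97.CotT2.ChangeRing
import Groth.Agent.Lib.Helper97.CotT2.LocalC1

/-!
# Minimal generators: relations have coefficients in the maximal ideal, and vanishing of `H2` for
the module `Q/F₀` forces all relations to be trivial
-/

set_option autoImplicit false

namespace Groth.Agent.Lib.Helper97.CotT2

open Finsupp IsLocalRing

noncomputable section

variable {A : Type*} [CommRing A] [IsLocalRing A]

/-- For a minimal system of generators, the coefficients of every relation lie in the maximal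
ideal. -/
theorem coeff_mem_maximalIdeal_of_minimal {n : ℕ} (r : Fin n → A)
    (hmin : (Ideal.span (Set.range r)).spanFinrank = n) {q : Fin n →₀ A} (hq : q ∈ Q r)
    (i₀ : Fin n) : q i₀ ∈ maximalIdeal A := by
  classical
  by_contra hunit
  rw [mem_maximalIdeal, mem_nonunits_iff, not_not] at hunit
  -- `r i₀` lies in the span of the others
  have h1 : r i₀ ∈ Ideal.span (r '' {i | i ≠ i₀}) := by
    have hdec : q = Finsupp.single i₀ (q i₀) + q.erase i₀ := (Finsupp.single_add_erase i₀ q).symm
    have hjm := (mem_Q r).mp hq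
    rw [hdec, map_add, jm_single] at hjm
    have h2 : jm r (q.erase i₀) ∈ Ideal.span (r '' {i | i ≠ i₀}) := by
      refine (Finsupp.mem_span_image_iff_linearCombination A).mpr ⟨q.erase i₀, ?_, rfl⟩
      rw [Finsupp.mem_supported']
      intro i hi
      have : i = i₀ := by
        by_contra h
        exact hi h
      rw [this, Finsupp.erase_same]
    have h3 : q i₀ * r i₀ ∈ Ideal.span (r '' {i | i ≠ i₀}) := by
      rw [eq_neg_of_add_eq_zero_left hjm]
      exact Submodule.neg_mem _ h2
    obtain ⟨u, hu⟩ := hunit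
    have h4 := Ideal.mul_mem_left _ (↑u⁻¹ : A) h3
    rwa [← mul_assoc, ← hu, Units.inv_mul, one_mul] at h4
  have h2 : Ideal.span (Set.range r) ≤ Ideal.span (r '' {i | i ≠ i₀}) := by
    rw [Ideal.span_le]
    rintro _ ⟨i, rfl⟩
    by_cases h : i = i₀
    · rw [h]; exact h1
    · exact Ideal.subset_span ⟨i, h, rfl⟩
  have h3 : Ideal.span (Set.range r) = Ideal.span (r '' {i | i ≠ i₀}) :=
    le_antisymm h2 (Ideal.span_mono (Set.image_subset_range _ _))
  have hfin : (r '' {i | i ≠ i₀}).Finite := Set.toFinite _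
  have h4 : (Ideal.span (r '' {i | i ≠ i₀})).spanFinrank ≤ (r '' {i | i ≠ i₀}).ncard :=
    Submodule.spanFinrank_span_le_ncard_of_finite hfin
  have h5 : (r '' {i | i ≠ i₀}).ncard ≤ ({i | i ≠ i₀} : Set (Fin n)).ncard :=
    Set.ncard_image_le (Set.toFinite _)
  have h6 : ({i | i ≠ i₀} : Set (Fin n)).ncard < n := by
    have : ({i | i ≠ i₀} : Set (Fin n)) = ({i₀} : Set (Fin n))ᶜ := by
      ext i
      simp
    rw [this, Set.ncard_compl, Set.ncard_singleton, Nat.card_eq_fintype_card, Fintype.card_fin]
    have : 0 < n := Fin.pos i₀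
    omega
  rw [← h3, hmin] at h4
  omega

/-- If `H2` with coefficients in `Q/F₀` vanishes and all relations have coefficients in the
maximal ideal (e.g. for minimal generators), all relations are trivial. -/
theorem Q_le_F0_of_H2Vanishes [IsNoetherianRing A] {n : ℕ} (r : Fin n → A)
    (hcoef : ∀ q ∈ Q r, ∀ i, q i ∈ maximalIdeal A) (h : H2Vanishes r (HQ r)) : Q r ≤ F0 r := by
  let φ : Q r →ₗ[A] HQ r := Submodule.mkQ _
  have hφ : ∀ q' : Q r, (q' : Fin n →₀ A) ∈ F0 r → φ q' = 0 := fun q' hq' =>
    (Submodule.Quotient.mk_eq_zero _).mpr hq'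
  obtain ⟨ψ, hψ⟩ := h φ hφ
  have htop : (⊤ : Submodule A (HQ r)) ≤ maximalIdeal A • (⊤ : Submodule A (HQ r)) := by
    intro y _
    induction y using Submodule.Quotient.induction_on with
    | H q =>
      have h1 : (Submodule.Quotient.mk q : HQ r) = ψ q := hψ q
      have h2 : ψ (q : Fin n →₀ A) = ∑ i ∈ (q : Fin n →₀ A).support,
          (q : Fin n →₀ A) i • ψ (Finsupp.single i 1) := by
        conv_lhs => rw [← Finsupp.sum_single (q : Fin n →₀ A)]
        rw [Finsupp.sum, map_sum]
        refine Finset.sum_congr rfl fun i _ => ?_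
        rw [← Finsupp.smul_single_one, map_smul]
      rw [h1, h2]
      exact Submodule.sum_mem _ fun i _ =>
        Submodule.smul_mem_smul (hcoef _ q.2 i) Submodule.mem_top
  have hfg : (⊤ : Submodule A (HQ r)).FG := Module.Finite.fg_top
  have hbot := Submodule.eq_bot_of_le_smul_of_le_jacobson_bot (maximalIdeal A) ⊤ hfg htop
    (IsLocalRing.maximalIdeal_le_jacobson _)
  intro q hq
  have h2 : (Submodule.Quotient.mk (⟨q, hq⟩ : Q r) : HQ r) ∈ (⊤ : Submodule A (HQ r)) :=
    Submodule.mem_top
  rw [hbot, Submodule.mem_bot, Submodule.Quotient.mk_eq_zero] at h2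
  exact h2

end

end Groth.Agent.Lib.Helper97.CotT2
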