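import Groth.Prelude.Def_CotT
import Mathlib

/-!
# A presentation without relations has vanishing `T¹` and `T²`
-/

set_option autoImplicit false

namespace Groth.Agent.Lib.Helper97.CotT2

open TensorProduct MvPolynomial

noncomputable section

variable {A B : Type*} [CommRing A] [CommRing B] [Algebra A B] {ι σ : Type*}

lemma subsingleton_quotient_of_subsingleton {R X : Type*} [Ring R] [AddCommGroup X] [Module R X]
    [Subsingleton X] (p : Submodule R X) : Subsingleton (X ⧸ p) := by
  refine ⟨fun a b => ?_⟩
  induction a using Submodule.Quotient.induction_on with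
  | H x =>
    induction b using Submodule.Quotient.induction_on with
    | H y => rw [Subsingleton.elim x y]

theorem subsingleton_T1_T2_of_isEmpty [IsEmpty σ] (P : Algebra.Presentation A B ι σ)
    (M : Type*) [AddCommGroup M] [Module B M] :
    Subsingleton (CotT.T1 P M) ∧ Subsingleton (CotT.T2 P M) := by
  have hF : ∀ f : CotT.relMod P, f = 0 := fun f => Subsingleton.elim _ _
  have hL1 : ∀ x : CotT.L1 P, x = 0 := by
    intro x
    induction x using TensorProduct.induction_on with
    | zero => rfl
    | add x y hx hy => rw [hx, hy, add_zero]
    | tmul b f => rw [hF f, TensorProduct.tmul_zero]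
  have hL2 : ∀ x : CotT.L2 P, x = 0 := by
    intro x
    induction x using Submodule.Quotient.induction_on with
    | H t =>
      induction t using TensorProduct.induction_on with
      | zero => rfl
      | add x y hx hy => rw [Submodule.Quotient.mk_add, hx, hy, add_zero]
      | tmul b q =>
        have : q = 0 := Subtype.ext (hF _)
        rw [this, TensorProduct.tmul_zero]
        rfl
  have h1 : Subsingleton (CotT.L1 P →ₗ[B] M) :=
    ⟨fun φ ψ => LinearMap.ext fun x => by rw [hL1 x, map_zero, map_zero]⟩
  have h2 : Subsingleton (CotT.L2 P →ₗ[B] M) :=
    ⟨fun φ ψ => LinearMap.ext fun x => by rw [hL2 x, map_zero, map_zero]⟩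
  have h3 : Subsingleton (CotT.cocycles1 P M) := inferInstance
  exact ⟨subsingleton_quotient_of_subsingleton _, subsingleton_quotient_of_subsingleton _⟩

/-- The presentation of the polynomial algebra by its variables, without relations. -/
def presMv.{u1, w1} (A : Type u1) [CommRing A] (κ : Type w1) :
    Algebra.Presentation A (MvPolynomial κ A) κ PEmpty.{w1 + 1} where
  __ := Algebra.Generators.mvPolynomial A κ
  relation := PEmpty.elim
  span_range_relation_eq_ker := by
    simp only [Set.range_eq_empty, Ideal.span_empty]
    symm
    rw [Algebra.Generators.ker_eq_ker_aeval_val]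
    change RingHom.ker (aeval (X : κ → MvPolynomial κ A)) = ⊥
    rw [MvPolynomial.aeval_X_left]
    exact (RingHom.injective_iff_ker_eq_bot _).mp Function.injective_id

end

end Groth.Agent.Lib.Helper97.CotT2
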