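import Mathlib
import Groth.Agent.Lib.Helper94.CILocal
import Groth.Agent.Lib.Helper65.RegularSmooth

/-!
# The kernel of a surjection from a regular finite type algebra onto a formally smooth algebra over
a field is locally generated by a regular sequence
-/

set_option autoImplicit false

namespace Groth.Agent.Lib.Helper97.CotT2

open IsLocalRing

universe u

theorem isRegularIdeal_map_of_formallySmooth_quotient (k R : Type u) [Field k] [CommRing R]
    [Algebra k R] [Algebra.FiniteType k R] [IsRegularRing R] (I : Ideal R)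
    [Algebra.FormallySmooth k (R ⧸ I)] (m : Ideal R) [m.IsMaximal] (hI : I ≤ m) :
    CInt.IsRegularIdeal (I.map (algebraMap R (Localization.AtPrime m))) := by
  let A := Localization.AtPrime m
  let J : Ideal A := I.map (algebraMap R A)
  have hJ : J ≤ maximalIdeal A := by
    rw [Ideal.map_le_iff_le_comap]
    change I ≤ Ideal.under R (maximalIdeal A)
    rw [IsLocalization.AtPrime.under_maximalIdeal A m]
    exact hI
  have hJtop : J ≠ ⊤ := fun h => (IsLocalRing.maximalIdeal.isMaximal A).ne_top
    (top_le_iff.mp (h ▸ hJ))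
  have : Nontrivial (A ⧸ J) := Ideal.Quotient.nontrivial_iff.mpr hJtop
  have : IsLocalRing (A ⧸ J) :=
    IsLocalRing.of_surjective' (Ideal.Quotient.mk J) Ideal.Quotient.mk_surjective
  have : Algebra.FormallySmooth (R ⧸ I) (A ⧸ J) :=
    Algebra.FormallySmooth.of_isLocalization (Algebra.algebraMapSubmonoid (R ⧸ I) m.primeCompl)
  have : IsScalarTower k (R ⧸ I) (A ⧸ J) := IsScalarTower.of_algebraMap_eq fun x => by
    rw [IsScalarTower.algebraMap_apply k A (A ⧸ J), IsScalarTower.algebraMap_apply k R A,
      IsScalarTower.algebraMap_apply k R (R ⧸ I)]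
    rfl
  have : Algebra.FormallySmooth k (A ⧸ J) := Algebra.FormallySmooth.comp k (R ⧸ I) (A ⧸ J)
  have : Algebra.EssFiniteType k A := Algebra.EssFiniteType.comp k R A
  have : Algebra.EssFiniteType k (A ⧸ J) := Algebra.EssFiniteType.comp k A (A ⧸ J)
  have hAJ : IsRegularLocalRing (A ⧸ J) :=
    Groth.Agent.Lib.Helper65.RegularSmooth.isRegularLocalRing_of_formallySmooth k (A ⧸ J)
  refine (Groth.Agent.Lib.Helper94.CILocal.isRegularIdeal_iff_quotient A J J le_rfl hJ hAJ).mpr ?_
  refine ⟨[], RingTheory.Sequence.IsRegular.nil _ _, ?_⟩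
  rw [Ideal.ofList_nil, Ideal.map_quotient_self]

end Groth.Agent.Lib.Helper97.CotT2
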