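import Groth.Agent.Lib.Helper97.CotT2.T1Indep
import Groth.Agent.S12286
import Groth.Agent.S12289

/-!
# `CotT.T0` and `CotT.T1` do not depend on the presentation
-/

set_option autoImplicit false

namespace Groth.Agent.Lib.Helper97.CotT2

noncomputable section

universe u w w' m

variable {A B : Type u} [CommRing A] [CommRing B] [Algebra A B]

theorem nonempty_T0_equiv {ι σ : Type w} {ι' σ' : Type w'}
    (P : Algebra.Presentation A B ι σ) (P' : Algebra.Presentation A B ι' σ')
    (M : Type m) [AddCommGroup M] [Module B M] :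
    Nonempty (CotT.T0 P M ≃ₗ[B] CotT.T0 P' M) := by
  let _ : Module A M := Module.compHom M (algebraMap A B)
  have _ : IsScalarTower A B M := IsScalarTower.of_compHom A B M
  let e : Derivation A B M ≃ₗ[B] CotT.T0 P M :=
    LinearEquiv.ofBijective (CotT.derToT0 P M) (Groth.Agent.S12286.result A B ι σ P M)
  let e' : Derivation A B M ≃ₗ[B] CotT.T0 P' M :=
    LinearEquiv.ofBijective (CotT.derToT0 P' M) (Groth.Agent.S12286.result A B ι' σ' P' M)
  exact ⟨e.symm.trans e'⟩

/-- `T¹` is the cokernel of `Hom(L₀, M) → Hom(I/I², M)`. -/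
theorem nonempty_T1_equiv_N {ι σ : Type w} (P : Algebra.Presentation A B ι σ)
    (M : Type m) [AddCommGroup M] [Module B M] :
    Nonempty (CotT.T1 P M ≃ₗ[B] N P.toExtension M) := by
  obtain ⟨-, hker, hsurj⟩ := Groth.Agent.S12289.result A B ι σ P M
  exact ⟨((Submodule.quotEquivOfEq _ _ hker.symm).trans
    (LinearMap.quotKerEquivOfSurjective (CotT.homToT1 P M) hsurj)).symm⟩

theorem nonempty_T1_equiv {ι σ : Type w} {ι' σ' : Type w'}
    (P : Algebra.Presentation A B ι σ) (P' : Algebra.Presentation A B ι' σ')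
    (M : Type m) [AddCommGroup M] [Module B M] :
    Nonempty (CotT.T1 P M ≃ₗ[B] CotT.T1 P' M) := by
  obtain ⟨e⟩ := nonempty_T1_equiv_N P M
  obtain ⟨e'⟩ := nonempty_T1_equiv_N P' M
  let f := (P.toGenerators.defaultHom P'.toGenerators).toExtensionHom
  let g := (P'.toGenerators.defaultHom P.toGenerators).toExtensionHom
  exact ⟨e.trans ((equivN (M := M) f g).symm.trans e'.symm)⟩

end

end Groth.Agent.Lib.Helper97.CotT2
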