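import Groth.Agent.Lib.Helper97.CotT2.SplitPow
import Groth.Agent.Lib.Helper97.CotT2.T01

/-!
# Smoothness away from `V(g)` and uniform `g`-power torsion of `T¹`

For a finitely presented algebra `A → B` and `g : B`: `B` is smooth over `A` at all primes not
containing `g` iff some power of `g` kills `T¹(B/A, M)` for all (finite) `B`-modules `M`.
-/

set_option autoImplicit false

namespace Groth.Agent.Lib.Helper97.CotT2

open Algebra

noncomputable section

universe u w w' m

variable {A B : Type u} [CommRing A] [CommRing B] [Algebra A B]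

section T1

variable (g : B)

theorem pow_smul_N_eq_zero (Q : Extension A B) (n : ℕ)
    (ρ : Q.CotangentSpace →ₗ[B] Q.Cotangent)
    (hρ : ρ ∘ₗ Q.cotangentComplex = g ^ n • LinearMap.id)
    (M : Type m) [AddCommGroup M] [Module B M] (y : N Q M) : g ^ n • y = 0 := by
  induction y using Submodule.Quotient.induction_on with
  | H φ =>
    rw [← Submodule.Quotient.mk_smul, Submodule.Quotient.mk_eq_zero]
    refine ⟨φ ∘ₗ ρ, ?_⟩
    ext x
    have h1 := LinearMap.congr_fun hρ x
    simp only [LinearMap.comp_apply, LinearMap.smul_apply, LinearMap.id_apply] at h1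
    simp only [LinearMap.lcomp_apply, LinearMap.comp_apply, LinearMap.smul_apply]
    rw [h1, map_smul]

variable {ι σ : Type w} (P : Algebra.Presentation A B ι σ)

theorem pow_smul_T1_eq_zero {ι' σ' : Type w'} (P' : Algebra.Presentation A B ι' σ') (n : ℕ)
    (ρ : P.toExtension.CotangentSpace →ₗ[B] P.toExtension.Cotangent)
    (hρ : ρ ∘ₗ P.toExtension.cotangentComplex = g ^ n • LinearMap.id)
    (M : Type m) [AddCommGroup M] [Module B M] (x : CotT.T1 P' M) : g ^ n • x = 0 := by
  obtain ⟨e⟩ := nonempty_T1_equiv P' P M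
  obtain ⟨e₂⟩ := nonempty_T1_equiv_N P M
  have h := pow_smul_N_eq_zero g P.toExtension n ρ hρ M (e₂ (e x))
  rw [← map_smul, ← map_smul] at h
  apply e.injective
  apply e₂.injective
  rw [h, map_zero, map_zero]

theorem exists_comp_eq_of_pow_smul_T1_eq_zero {ι' σ' : Type w'}
    (P' : Algebra.Presentation A B ι' σ') (n : ℕ)
    (h : ∀ x : CotT.T1 P' P.toExtension.Cotangent, g ^ n • x = 0) :
    ∃ ρ : P.toExtension.CotangentSpace →ₗ[B] P.toExtension.Cotangent,
      ρ ∘ₗ P.toExtension.cotangentComplex = g ^ n • LinearMap.id := by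
  obtain ⟨e⟩ := nonempty_T1_equiv P' P P.toExtension.Cotangent
  obtain ⟨e₂⟩ := nonempty_T1_equiv_N P P.toExtension.Cotangent
  let y : N P.toExtension P.toExtension.Cotangent := Submodule.Quotient.mk LinearMap.id
  have h1 : g ^ n • y = 0 := by
    have h2 := h (e.symm (e₂.symm y))
    rw [← map_smul, ← map_smul] at h2
    have h3 := congrArg (fun z => e₂ (e z)) h2
    simpa using h3
  rw [← Submodule.Quotient.mk_smul, Submodule.Quotient.mk_eq_zero] at h1
  obtain ⟨ρ, hρ⟩ := h1
  exact ⟨ρ, hρ⟩

end T1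

section Smooth

variable [Algebra.FinitePresentation A B] (g : B)

/-- `D(g)` lies in the smooth locus iff `H¹(L)` is `g`-power torsion and `Ω_g` is projective. -/
theorem forall_mem_smoothLocus_iff :
    (∀ q : PrimeSpectrum B, g ∉ q.asIdeal → q ∈ Algebra.smoothLocus A B) ↔
      (∀ m : Algebra.H1Cotangent A B, ∃ k : ℕ, g ^ k • m = 0) ∧
        Module.Projective (Localization.Away g) (LocalizedModule.Away g Ω[B⁄A]) := by
  have h0 : (∀ q : PrimeSpectrum B, g ∉ q.asIdeal → q ∈ Algebra.smoothLocus A B) ↔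
      ((PrimeSpectrum.basicOpen g : Set (PrimeSpectrum B)) ⊆ Algebra.smoothLocus A B) :=
    Iff.rfl
  rw [h0, Algebra.smoothLocus_eq_compl_support_inter, Set.subset_inter_iff, Set.subset_compl_comm,
    PrimeSpectrum.basicOpen_eq_zeroLocus_compl, compl_compl,
    ← LocalizedModule.subsingleton_iff_support_subset,
    ← PrimeSpectrum.basicOpen_eq_zeroLocus_compl, Module.basicOpen_subset_freeLocus_iff,
    LocalizedModule.subsingleton_iff]
  refine and_congr ?_ Iff.rfl
  constructor
  · intro h m
    obtain ⟨_, ⟨k, rfl⟩, hk⟩ := h m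
    exact ⟨k, hk⟩
  · intro h m
    obtain ⟨k, hk⟩ := h m
    exact ⟨g ^ k, ⟨k, rfl⟩, hk⟩

/-- **Smoothness away from `V(g)`** in terms of `T¹`. -/
theorem forall_mem_smoothLocus_iff_exists_pow_smul_T1 :
    (∀ q : PrimeSpectrum B, g ∉ q.asIdeal → q ∈ Algebra.smoothLocus A B) ↔
      ∃ n₀ : ℕ, ∀ (M : Type u) [AddCommGroup M] [Module B M] [Module.Finite B M],
        ∀ x : CotT.T1 (CotT.canon A B) M, g ^ n₀ • x = 0 := by
  let P := Algebra.Presentation.ofFinitePresentation A B
  let Q := P.toExtension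
  have hfin : Module.Finite B Q.Cotangent := Extension.Cotangent.finite P.fg_ker
  have hfree : Module.Free B Q.CotangentSpace :=
    Module.Free.of_basis P.toGenerators.cotangentSpaceBasis
  have hfinF : Module.Finite B Q.CotangentSpace :=
    Module.Finite.of_basis P.toGenerators.cotangentSpaceBasis
  have hfp : Module.FinitePresentation B Q.CotangentSpace :=
    Module.finitePresentation_of_projective B Q.CotangentSpace
  have hK : (∀ m : Algebra.H1Cotangent A B, ∃ k : ℕ, g ^ k • m = 0) ↔
      ∀ x : Q.Cotangent, Q.cotangentComplex x = 0 → ∃ k : ℕ, g ^ k • x = 0 := by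
    constructor
    · intro h x hx
      obtain ⟨k, hk⟩ := h (P.equivH1Cotangent ⟨x, hx⟩)
      refine ⟨k, ?_⟩
      rw [← map_smul, LinearEquiv.map_eq_zero_iff] at hk
      exact congrArg Subtype.val hk
    · intro h m
      obtain ⟨k, hk⟩ := h (P.equivH1Cotangent.symm m).1 (P.equivH1Cotangent.symm m).2
      refine ⟨k, ?_⟩
      have h1 : g ^ k • P.equivH1Cotangent.symm m = 0 := Subtype.ext hk
      rw [← map_smul, LinearEquiv.map_eq_zero_iff] at h1
      exact h1
  rw [forall_mem_smoothLocus_iff, hK]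
  constructor
  · rintro ⟨h1, h2⟩
    obtain ⟨n, ρ, hρ⟩ := exists_comp_eq_pow_smul_id g Q.cotangentComplex Q.toKaehler
      Q.exact_cotangentComplex_toKaehler Q.toKaehler_surjective h1 h2
    exact ⟨n, fun M _ _ _ x => pow_smul_T1_eq_zero g P (CotT.canon A B) n ρ hρ M x⟩
  · rintro ⟨n, h⟩
    obtain ⟨ρ, hρ⟩ := exists_comp_eq_of_pow_smul_T1_eq_zero g P (CotT.canon A B) n
      (h Q.Cotangent)
    refine ⟨fun x hx => ⟨n, pow_smul_eq_zero_of_comp_eq g Q.cotangentComplex ρ hρ x hx⟩, ?_⟩
    exact projective_localizedModule_of_comp_eq g Q.cotangentComplex Q.toKaehler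
      Q.exact_cotangentComplex_toKaehler Q.toKaehler_surjective n ρ hρ

end Smooth

end

end Groth.Agent.Lib.Helper97.CotT2
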