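import Groth.Agent.Lib.Helper97.CotT2.T01

/-!
# `T¹(B/A, M)` vanishes for all `M` iff `B` is formally smooth over `A`
-/

set_option autoImplicit false

namespace Groth.Agent.Lib.Helper97.CotT2

noncomputable section

universe u w

variable {A B : Type u} [CommRing A] [CommRing B] [Algebra A B]

/-- For a presentation whose polynomial ring lives in the universe of `B`: `T¹(P, M) = 0` for all
`M` iff `B` is formally smooth over `A`. -/
theorem forall_subsingleton_T1_iff_formallySmooth {ι σ : Type u}
    (P : Algebra.Presentation A B ι σ) :
    (∀ (M : Type u) [AddCommGroup M] [Module B M], Subsingleton (CotT.T1 P M)) ↔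
      Algebra.FormallySmooth A B := by
  have hFS : Algebra.FormallySmooth A P.toExtension.Ring :=
    inferInstanceAs (Algebra.FormallySmooth A (MvPolynomial ι A))
  rw [Algebra.Extension.formallySmooth_iff_split_injection P.toExtension]
  constructor
  · intro H
    obtain ⟨e⟩ := nonempty_T1_equiv_N P P.toExtension.Cotangent
    have := H P.toExtension.Cotangent
    have hsub : Subsingleton (N P.toExtension P.toExtension.Cotangent) :=
      e.symm.toEquiv.subsingleton
    have h0 : (Submodule.Quotient.mk (LinearMap.id : P.toExtension.Cotangent →ₗ[B] _) :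
        N P.toExtension P.toExtension.Cotangent) = 0 := Subsingleton.elim _ _
    rw [Submodule.Quotient.mk_eq_zero] at h0
    obtain ⟨l, hl⟩ := h0
    exact ⟨l, hl⟩
  · rintro ⟨l, hl⟩ M _ _
    obtain ⟨e⟩ := nonempty_T1_equiv_N P M
    have hsub : Subsingleton (N P.toExtension M) := by
      refine ⟨fun a b => ?_⟩
      have hall : ∀ φ : P.toExtension.Cotangent →ₗ[B] M,
          φ ∈ LinearMap.range (LinearMap.lcomp B M P.toExtension.cotangentComplex) := by
        intro φ
        refine ⟨φ ∘ₗ l, ?_⟩
        rw [LinearMap.lcomp_apply', LinearMap.comp_assoc, hl, LinearMap.comp_id]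
      induction a using Submodule.Quotient.induction_on with
      | H g =>
        induction b using Submodule.Quotient.induction_on with
        | H g' =>
          rw [(Submodule.Quotient.mk_eq_zero _).mpr (hall g),
            (Submodule.Quotient.mk_eq_zero _).mpr (hall g')]
    exact e.toEquiv.subsingleton

end

end Groth.Agent.Lib.Helper97.CotT2
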