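import Groth.Agent.Lib.Helper97.CotT2.Bridge
import Groth.Agent.Lib.Helper97.CotT2.GlobalC1
import Groth.Agent.Lib.Helper97.CotT2.RegLoc
import Groth.Agent.Lib.Helper97.CotT2.T2Indep
import Groth.Agent.S12289

/-!
# `T²` vanishes for a formally smooth algebra of finite type over a field
-/

set_option autoImplicit false

namespace Groth.Agent.Lib.Helper97.CotT2

open TensorProduct

noncomputable section

section General

variable {A : Type*} {B : Type*} {ι σ : Type*} [CommRing A] [CommRing B] [Algebra A B]
variable (P : Algebra.Presentation A B ι σ)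

/-- Every element of `L₂` is the class of `1 ⊗ q`. -/
lemma cls_surjective : Function.Surjective (cls P) := by
  intro x
  induction x using Submodule.Quotient.induction_on with
  | H t =>
    induction t using TensorProduct.induction_on with
    | zero =>
      refine ⟨0, ?_⟩
      rw [cls, TensorProduct.tmul_zero]
    | add x y hx hy =>
      obtain ⟨q, hq⟩ := hx
      obtain ⟨q', hq'⟩ := hy
      refine ⟨q + q', ?_⟩
      rw [cls_add, hq, hq', Submodule.Quotient.mk_add]
    | tmul b q =>
      obtain ⟨x, rfl⟩ := P.toExtension.algebraMap_surjective b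
      refine ⟨x • q, ?_⟩
      rw [cls_smul, cls, ← Submodule.Quotient.mk_smul, TensorProduct.smul_tmul', smul_eq_mul,
        mul_one]

lemma one_tmul_eq_zero_iff (f : CotT.relMod P) :
    ((1 : B) ⊗ₜ[P.toExtension.Ring] f : CotT.L1 P) = 0 ↔
      ∀ s, f s ∈ RingHom.ker (algebraMap P.toExtension.Ring B) := by
  rw [← (CotT.L1basis P).repr.map_eq_zero_iff, CotT.L1basis, Algebra.TensorProduct.basis_repr_tmul,
    one_smul, Finsupp.basisSingleOne_repr, LinearEquiv.refl_apply]
  constructor
  · intro h s
    have := DFunLike.congr_fun h s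
    rwa [Finsupp.mapRange_apply] at this
  · intro h
    ext s
    rw [Finsupp.mapRange_apply]
    exact h s

/-- `d₂` is injective as soon as relations with coefficients in the ideal are trivial. -/
theorem d2_injective_of_C1
    (h : ∀ q ∈ Q (CotT.rel P), (∀ s, q s ∈ Ideal.span (Set.range (CotT.rel P))) →
      q ∈ F0 (CotT.rel P)) :
    Function.Injective (CotT.d2 P) := by
  rw [← LinearMap.ker_eq_bot, LinearMap.ker_eq_bot']
  intro x hx
  obtain ⟨q, rfl⟩ := cls_surjective P x
  rw [cls, CotT.d2_mk_tmul, one_tmul_eq_zero_iff] at hx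
  refine cls_eq_zero P q ?_
  refine h _ q.2 fun s => ?_
  rw [← ker_eq_span_rel P]
  exact hx s

/-- If `d₂` is injective and `L₁ → I/I²` splits, `T²` vanishes. -/
theorem subsingleton_T2_of_split (hinj : Function.Injective (CotT.d2 P))
    (s : P.toExtension.Cotangent →ₗ[B] CotT.L1 P) (hs : CotT.toCot P ∘ₗ s = LinearMap.id)
    (M : Type*) [AddCommGroup M] [Module B M] : Subsingleton (CotT.T2 P M) := by
  have hall : ∀ g : CotT.L2 P →ₗ[B] M, g ∈ LinearMap.range (CotT.d2Star P M) := by
    intro g
    let e : CotT.L2 P ≃ₗ[B] LinearMap.range (CotT.d2 P) := LinearEquiv.ofInjective (CotT.d2 P) hinj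
    have hmem : ∀ x : CotT.L1 P, x - s (CotT.toCot P x) ∈ LinearMap.range (CotT.d2 P) := by
      intro x
      apply Groth.Agent.S12289.ker_toCot_le_range_d2 P
      rw [LinearMap.mem_ker, map_sub]
      have := LinearMap.congr_fun hs (CotT.toCot P x)
      rw [LinearMap.comp_apply, LinearMap.id_apply] at this
      rw [this, sub_self]
    let π : CotT.L1 P →ₗ[B] LinearMap.range (CotT.d2 P) :=
      LinearMap.codRestrict _ (LinearMap.id - s ∘ₗ CotT.toCot P) (fun x => hmem x)
    refine ⟨g ∘ₗ e.symm.toLinearMap ∘ₗ π, ?_⟩
    rw [CotT.d2Star_apply]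
    refine LinearMap.ext fun y => ?_
    rw [LinearMap.comp_apply, LinearMap.comp_apply, LinearMap.comp_apply]
    congr 1
    rw [LinearEquiv.coe_coe, LinearEquiv.symm_apply_eq]
    apply Subtype.ext
    change CotT.d2 P y - s (CotT.toCot P (CotT.d2 P y)) = CotT.d2 P y
    have : CotT.toCot P (CotT.d2 P y) = 0 := LinearMap.congr_fun (CotT.toCot_comp_d2 P) y
    rw [this, map_zero, sub_zero]
  refine ⟨fun a b => ?_⟩
  induction a using Submodule.Quotient.induction_on with
  | H g =>
    induction b using Submodule.Quotient.induction_on with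
    | H g' =>
      rw [(Submodule.Quotient.mk_eq_zero _).mpr (hall g), (Submodule.Quotient.mk_eq_zero _).mpr (hall g')]

/-- A retraction of the conormal map gives a splitting of `L₁ → I/I²`. -/
theorem exists_section_of_retraction
    (l : P.toExtension.CotangentSpace →ₗ[B] P.toExtension.Cotangent)
    (hl : l ∘ₗ P.toExtension.cotangentComplex = LinearMap.id) :
    ∃ s : P.toExtension.Cotangent →ₗ[B] CotT.L1 P, CotT.toCot P ∘ₗ s = LinearMap.id := by
  have : Module.Free B P.toExtension.CotangentSpace := Module.Free.of_basis P.cotangentSpaceBasis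
  obtain ⟨l', hl'⟩ := Module.projective_lifting_property (CotT.toCot P) l
    (Groth.Agent.S12289.toCot_surjective P)
  refine ⟨l' ∘ₗ P.toExtension.cotangentComplex, ?_⟩
  rw [← LinearMap.comp_assoc, hl', hl]

end General

section Field

universe u

variable {k B : Type u} [Field k] [CommRing B] [Algebra k B] {ι : Type} [Finite ι] {σ : Type*}
variable (P : Algebra.Presentation k B ι σ)

/-- For a finite-variable presentation of a formally smooth algebra over a field, relations with
coefficients in the ideal are trivial. -/
theorem C1_of_formallySmooth [Algebra.FormallySmooth k B] :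
    ∀ q ∈ Q (CotT.rel P), (∀ s, q s ∈ Ideal.span (Set.range (CotT.rel P))) →
      q ∈ F0 (CotT.rel P) := by
  intro q hq hI
  have hFT : Algebra.FiniteType k P.toExtension.Ring :=
    inferInstanceAs (Algebra.FiniteType k (MvPolynomial ι k))
  have hReg : IsRegularRing P.toExtension.Ring :=
    inferInstanceAs (IsRegularRing (MvPolynomial ι k))
  let π : P.toExtension.Ring →ₐ[k] B := IsScalarTower.toAlgHom k P.toExtension.Ring B
  have hπ : Function.Surjective π := P.toExtension.algebraMap_surjective
  have hIeq : Ideal.span (Set.range (CotT.rel P)) = RingHom.ker π := by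
    rw [← ker_eq_span_rel P]
    rfl
  let e : (P.toExtension.Ring ⧸ Ideal.span (Set.range (CotT.rel P))) ≃ₐ[k] B :=
    (Ideal.quotientEquivAlgOfEq k hIeq).trans (Ideal.quotientKerAlgEquivOfSurjective hπ)
  have hFS : Algebra.FormallySmooth k
      (P.toExtension.Ring ⧸ Ideal.span (Set.range (CotT.rel P))) :=
    Algebra.FormallySmooth.of_equiv e.symm
  refine mem_F0_of_locally_regular (CotT.rel P) ?_ hq hI
  intro m hm hIm
  obtain ⟨rs, hrs, hrsI⟩ := isRegularIdeal_map_of_formallySmooth_quotient k P.toExtension.Ring
    (Ideal.span (Set.range (CotT.rel P))) m hIm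
  exact ⟨rs, hrs.toIsWeaklyRegular, hrsI⟩

/-- `T²` of a finite-variable presentation of a formally smooth algebra over a field vanishes. -/
theorem subsingleton_T2_of_formallySmooth [Algebra.FormallySmooth k B]
    (M : Type*) [AddCommGroup M] [Module B M] : Subsingleton (CotT.T2 P M) := by
  have hFS : Algebra.FormallySmooth k P.toExtension.Ring :=
    inferInstanceAs (Algebra.FormallySmooth k (MvPolynomial ι k))
  obtain ⟨l, hl⟩ := (Algebra.Extension.formallySmooth_iff_split_injection P.toExtension).mp
    inferInstance
  obtain ⟨s, hs⟩ := exists_section_of_retraction P l hl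
  exact subsingleton_T2_of_split P (d2_injective_of_C1 P (C1_of_formallySmooth P)) s hs M

end Field

end

end Groth.Agent.Lib.Helper97.CotT2
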