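import Mathlib

/-!
# Splitting a map up to a power of an element

For `d : N → F` with cokernel `π : F → Ω` over a ring `B` and `g : B`:
`∃ n ρ, ρ ∘ d = g ^ n • id` iff the kernel of `d` is `g`-power torsion and `Ω_g` is projective over
`B_g` (for `N` finite and `F` finitely presented projective).
-/

set_option autoImplicit false

namespace Groth.Agent.Lib.Helper97.CotT2

open IsLocalizedModule

noncomputable section

variable {B : Type*} [CommRing B] (g : B)
variable {N F Ω : Type*} [AddCommGroup N] [Module B N] [AddCommGroup F] [Module B F]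
  [AddCommGroup Ω] [Module B Ω]
variable (d : N →ₗ[B] F) (π : F →ₗ[B] Ω)

/-- If `d` splits up to `g ^ n`, its kernel is killed by `g ^ n`. -/
theorem pow_smul_eq_zero_of_comp_eq {n : ℕ} (ρ : F →ₗ[B] N)
    (hρ : ρ ∘ₗ d = g ^ n • LinearMap.id) (x : N) (hx : d x = 0) : g ^ n • x = 0 := by
  have := LinearMap.congr_fun hρ x
  simp only [LinearMap.comp_apply, hx, map_zero, LinearMap.smul_apply, LinearMap.id_apply] at this
  exact this.symm

/-- If the kernel of `d` is `g`-power torsion and the localized cokernel is projective, then `d`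
splits up to a power of `g`. -/
theorem exists_comp_eq_pow_smul_id [Module.Finite B N] [Module.FinitePresentation B F]
    (hex : Function.Exact d π) (hπ : Function.Surjective π)
    (hK : ∀ x, d x = 0 → ∃ k : ℕ, g ^ k • x = 0)
    (hP : Module.Projective (Localization.Away g) (LocalizedModule.Away g Ω)) :
    ∃ (n : ℕ) (ρ : F →ₗ[B] N), ρ ∘ₗ d = g ^ n • LinearMap.id := by
  let S := Submonoid.powers g
  let fN := LocalizedModule.mkLinearMap S N
  let fF := LocalizedModule.mkLinearMap S F
  let fΩ := LocalizedModule.mkLinearMap S Ω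
  let d' := map S fN fF d
  let π' := map S fF fΩ π
  have hex' : Function.Exact d' π' := IsLocalizedModule.map_exact S fN fF fΩ d π hex
  have hπ' : Function.Surjective π' := map_surjective S fF fΩ π hπ
  have hd' : Function.Injective d' := by
    rw [injective_iff_map_eq_zero]
    intro x hx
    obtain ⟨⟨x, s⟩, rfl⟩ := IsLocalizedModule.mk'_surjective S fN x
    simp only [Function.uncurry_apply_pair] at hx ⊢
    rw [show d' (mk' fN x s) = mk' fF (d x) s from map_mk' S fN fF d x s,
      IsLocalizedModule.mk'_eq_zero'] at hx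
    obtain ⟨u, hu⟩ := hx
    have h1 : d ((u : B) • x) = 0 := by rw [map_smul]; exact hu
    obtain ⟨k, hk⟩ := hK _ h1
    rw [IsLocalizedModule.mk'_eq_zero']
    refine ⟨⟨g ^ k, k, rfl⟩ * u, ?_⟩
    rw [mul_smul]
    exact hk
  -- a section of `π'`
  let π'L : LocalizedModule S F →ₗ[Localization S] LocalizedModule S Ω :=
    π'.extendScalarsOfIsLocalization S (Localization S)
  obtain ⟨σL, hσL⟩ := Module.projective_lifting_property (P := LocalizedModule.Away g Ω) π'L
    LinearMap.id hπ'
  let σ : LocalizedModule S Ω →ₗ[B] LocalizedModule S F := σL.restrictScalars B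
  have hσ : ∀ y, π' (σ y) = y := fun y => LinearMap.congr_fun hσL y
  let e : LocalizedModule S F →ₗ[B] LocalizedModule S F := LinearMap.id - σ ∘ₗ π'
  have he : ∀ z, e z ∈ LinearMap.range d' := by
    intro z
    apply (hex' _).mp
    change π' (z - σ (π' z)) = 0
    rw [map_sub, hσ, sub_self]
  let E := LinearEquiv.ofInjective d' hd'
  let ρ' : LocalizedModule S F →ₗ[B] LocalizedModule S N :=
    E.symm.toLinearMap ∘ₗ (LinearMap.codRestrict (LinearMap.range d') e he)
  have hρ' : ∀ x, ρ' (d' x) = x := by
    intro x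
    apply hd'
    change d' (E.symm _) = d' x
    have h1 : ∀ y : LinearMap.range d', d' (E.symm y) = y := fun y => by
      have := LinearEquiv.apply_symm_apply E y
      exact congrArg Subtype.val this
    rw [h1]
    change d' x - σ (π' (d' x)) = d' x
    rw [hex'.apply_apply_eq_zero, map_zero, sub_zero]
  -- clear denominators
  obtain ⟨ρ₀, s, hρ₀⟩ := Module.FinitePresentation.exists_lift_of_isLocalizedModule S fN
    (ρ' ∘ₗ fF)
  have h1 : fN ∘ₗ (ρ₀ ∘ₗ d) = fN ∘ₗ ((s : B) • LinearMap.id) := by
    ext x
    have h2 := LinearMap.congr_fun hρ₀ (d x)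
    simp only [LinearMap.comp_apply, LinearMap.smul_apply, LinearMap.id_apply] at h2 ⊢
    rw [h2, show fF (d x) = d' (fN x) from (map_apply S fN fF d x).symm, hρ', map_smul]
    rfl
  obtain ⟨u, hu⟩ := Module.Finite.exists_smul_of_comp_eq_of_isLocalizedModule S fN _ _ h1
  obtain ⟨a, ha⟩ := u.2
  obtain ⟨b, hb⟩ := s.2
  refine ⟨a + b, (u : B) • ρ₀, ?_⟩
  have hu' : (u : B) • (ρ₀ ∘ₗ d) = (u : B) • ((s : B) • LinearMap.id) := hu
  rw [LinearMap.smul_comp, hu', smul_smul, pow_add, ← ha, ← hb]

/-- If `d` splits up to a power of `g`, the localized cokernel is projective. -/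
theorem projective_localizedModule_of_comp_eq [Module.Projective B F]
    (hex : Function.Exact d π) (hπ : Function.Surjective π) (n : ℕ) (ρ : F →ₗ[B] N)
    (hρ : ρ ∘ₗ d = g ^ n • LinearMap.id) :
    Module.Projective (Localization.Away g) (LocalizedModule.Away g Ω) := by
  let S := Submonoid.powers g
  let fN := LocalizedModule.mkLinearMap S N
  let fF := LocalizedModule.mkLinearMap S F
  let fΩ := LocalizedModule.mkLinearMap S Ω
  let d' := map S fN fF d
  let π' := map S fF fΩ π
  let ρ' := map S fF fN ρ
  have hex' : Function.Exact d' π' := IsLocalizedModule.map_exact S fN fF fΩ d π hex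
  have hπ' : Function.Surjective π' := map_surjective S fF fΩ π hπ
  have hρd : ∀ x, ρ' (d' x) = g ^ n • x := by
    intro x
    obtain ⟨⟨x, s⟩, rfl⟩ := IsLocalizedModule.mk'_surjective S fN x
    simp only [Function.uncurry_apply_pair]
    rw [show d' (mk' fN x s) = mk' fF (d x) s from map_mk' S fN fF d x s,
      show ρ' (mk' fF (d x) s) = mk' fN (ρ (d x)) s from map_mk' S fF fN ρ (d x) s]
    have := LinearMap.congr_fun hρ x
    simp only [LinearMap.comp_apply, LinearMap.smul_apply, LinearMap.id_apply] at this
    rw [this, mk'_smul]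
  let c : Localization S := IsLocalization.mk' (Localization S) 1 (⟨g ^ n, n, rfl⟩ : S)
  have hc : ∀ z : LocalizedModule S F, c • (g ^ n • z) = z := by
    intro z
    rw [← algebraMap_smul (Localization S) (g ^ n) z, smul_smul]
    have : c * algebraMap B (Localization S) (g ^ n) = 1 := by
      have := IsLocalization.mk'_spec (Localization S) (1 : B) (⟨g ^ n, n, rfl⟩ : S)
      rw [map_one] at this
      exact this
    rw [this, one_smul]
  let d'L : LocalizedModule S N →ₗ[Localization S] LocalizedModule S F :=
    d'.extendScalarsOfIsLocalization S (Localization S)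
  let π'L : LocalizedModule S F →ₗ[Localization S] LocalizedModule S Ω :=
    π'.extendScalarsOfIsLocalization S (Localization S)
  let ρ'L : LocalizedModule S F →ₗ[Localization S] LocalizedModule S N :=
    ρ'.extendScalarsOfIsLocalization S (Localization S)
  let e'L : LocalizedModule S F →ₗ[Localization S] LocalizedModule S F :=
    LinearMap.id - c • (d'L ∘ₗ ρ'L)
  have he'd : ∀ x, e'L (d' x) = 0 := by
    intro x
    change d' x - c • d' (ρ' (d' x)) = 0
    rw [hρd, map_smul, hc, sub_self]
  have hker : LinearMap.ker π'L ≤ LinearMap.ker e'L := by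
    intro z hz
    obtain ⟨x, rfl⟩ := (hex' z).mp hz
    exact he'd x
  let σL : LocalizedModule S Ω →ₗ[Localization S] LocalizedModule S F :=
    (Submodule.liftQ (LinearMap.ker π'L) e'L hker) ∘ₗ
      (LinearMap.quotKerEquivOfSurjective π'L hπ').symm.toLinearMap
  have hσπ : ∀ z, σL (π'L z) = e'L z := by
    intro z
    change Submodule.liftQ (LinearMap.ker π'L) e'L hker
      ((LinearMap.quotKerEquivOfSurjective π'L hπ').symm (π'L z)) = _
    have : (LinearMap.quotKerEquivOfSurjective π'L hπ').symm (π'L z) =
        Submodule.Quotient.mk z := by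
      rw [LinearEquiv.symm_apply_eq]
      rfl
    rw [this, Submodule.liftQ_apply]
  have hsplit : π'L ∘ₗ σL = LinearMap.id := by
    ext y
    obtain ⟨z, rfl⟩ := hπ' y
    change π'L (σL (π'L z)) = π'L z
    rw [hσπ]
    change π' (z - c • d' (ρ' z)) = π' z
    have h0 : π'L (c • d'L (ρ'L z)) = 0 := by
      rw [map_smul]
      change c • π' (d' (ρ' z)) = 0
      rw [hex'.apply_apply_eq_zero, smul_zero]
    rw [map_sub]
    change π' z - π'L (c • d'L (ρ'L z)) = π' z
    rw [h0, sub_zero]
  exact Module.Projective.of_split (M := LocalizedModule S F) σL π'L hsplit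

end

end Groth.Agent.Lib.Helper97.CotT2
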