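import Mathlib

/-!
# The cokernel of `Hom(L₀, M) → Hom(I/I², M)` does not depend on the extension
-/

set_option autoImplicit false

namespace Groth.Agent.Lib.Helper97.CotT2

open Algebra

noncomputable section

variable {A B : Type*} [CommRing A] [CommRing B] [Algebra A B]

section Maps

variable {Q Q' : Algebra.Extension A B}

/-- Mathlib's map on cotangent modules as a `B`-linear map for the native module structures. -/
def cotL (f : Q.Hom Q') : Q.Cotangent →ₗ[B] Q'.Cotangent where
  toFun := Extension.Cotangent.map f
  map_add' := map_add _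
  map_smul' b x := (Extension.Cotangent.map f).map_smul b x

@[simp] lemma cotL_apply (f : Q.Hom Q') (x : Q.Cotangent) :
    cotL f x = Extension.Cotangent.map f x := rfl

/-- Mathlib's map on cotangent spaces as a `B`-linear map for the native module structures. -/
def spaceL (f : Q.Hom Q') : Q.CotangentSpace →ₗ[B] Q'.CotangentSpace where
  toFun := Extension.CotangentSpace.map f
  map_add' := map_add _
  map_smul' b x := (Extension.CotangentSpace.map f).map_smul b x

@[simp] lemma spaceL_apply (f : Q.Hom Q') (x : Q.CotangentSpace) :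
    spaceL f x = Extension.CotangentSpace.map f x := rfl

/-- The homotopy as a `B`-linear map for the native module structures. -/
def subL (f g : Q.Hom Q') : Q.CotangentSpace →ₗ[B] Q'.Cotangent where
  toFun := f.sub g
  map_add' := map_add _
  map_smul' b x := (f.sub g).map_smul b x

lemma cotangentComplex_cotL (f : Q.Hom Q') (x : Q.Cotangent) :
    Q'.cotangentComplex (cotL f x) = spaceL f (Q.cotangentComplex x) :=
  (Extension.CotangentSpace.map_cotangentComplex f x).symm

lemma cotL_sub_cotL (f g : Q.Hom Q') (x : Q.Cotangent) :
    cotL f x - cotL g x = subL f g (Q.cotangentComplex x) :=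
  LinearMap.congr_fun (Extension.Cotangent.map_sub_map f g) x

end Maps

section Coker

variable (Q Q' : Algebra.Extension A B) (M : Type*) [AddCommGroup M] [Module B M]

/-- The cokernel of `Hom_B(L₀, M) → Hom_B(I/I², M)`. -/
abbrev N : Type _ :=
  (Q.Cotangent →ₗ[B] M) ⧸ LinearMap.range (LinearMap.lcomp B M Q.cotangentComplex)

variable {Q Q' M}

/-- The map induced on the cokernels by a morphism of extensions. -/
def pullN (f : Q.Hom Q') : N Q' M →ₗ[B] N Q M :=
  Submodule.mapQ _ _ (LinearMap.lcomp B M (cotL f)) (by
    rintro _ ⟨ψ, rfl⟩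
    refine ⟨ψ ∘ₗ spaceL f, ?_⟩
    ext x
    simp only [LinearMap.lcomp_apply, LinearMap.comp_apply]
    rw [cotangentComplex_cotL])

lemma pullN_mk (f : Q.Hom Q') (φ : Q'.Cotangent →ₗ[B] M) :
    pullN f (Submodule.Quotient.mk φ) = Submodule.Quotient.mk (φ ∘ₗ cotL f) := rfl

lemma pullN_eq (f g : Q.Hom Q') (x : N Q' M) : pullN f x = pullN g x := by
  induction x using Submodule.Quotient.induction_on with
  | H φ =>
    rw [pullN_mk, pullN_mk, ← sub_eq_zero, ← Submodule.Quotient.mk_sub, Submodule.Quotient.mk_eq_zero]
    refine ⟨φ ∘ₗ subL f g, ?_⟩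
    ext x
    simp only [LinearMap.lcomp_apply, LinearMap.comp_apply, LinearMap.sub_apply]
    rw [← cotL_sub_cotL, map_sub]

lemma pullN_id (x : N Q M) : pullN (Extension.Hom.id Q) x = x := by
  induction x using Submodule.Quotient.induction_on with
  | H φ =>
    rw [pullN_mk]
    congr 1
    ext x
    simp only [LinearMap.comp_apply, cotL_apply, Extension.Cotangent.map_id, LinearMap.id_apply]

end Coker

section Equiv

variable {Q Q' : Algebra.Extension A B} {M : Type*} [AddCommGroup M] [Module B M]

lemma pullN_comp (f : Q.Hom Q') (g : Q'.Hom Q) (x : N Q M) :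
    pullN f (pullN g x) = pullN (g.comp f) x := by
  induction x using Submodule.Quotient.induction_on with
  | H φ =>
    rw [pullN_mk, pullN_mk, pullN_mk]
    congr 1
    ext x
    simp only [LinearMap.comp_apply, cotL_apply]
    congr 1
    exact (LinearMap.congr_fun (Extension.Cotangent.map_comp (f := f) (g := g)) x).symm

/-- The cokernels for two extensions related by morphisms in both directions are isomorphic. -/
def equivN (f : Q.Hom Q') (g : Q'.Hom Q) : N Q' M ≃ₗ[B] N Q M :=
  LinearEquiv.ofLinearMap (pullN f) (pullN g)
    (LinearMap.ext fun x => by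
      rw [LinearMap.comp_apply, LinearMap.id_apply, pullN_comp, pullN_eq _ (Extension.Hom.id Q),
        pullN_id])
    (LinearMap.ext fun x => by
      rw [LinearMap.comp_apply, LinearMap.id_apply, pullN_comp, pullN_eq _ (Extension.Hom.id Q'),
        pullN_id])

end Equiv

end

end Groth.Agent.Lib.Helper97.CotT2
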