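import Groth.Agent.Lib.Helper97.CotT2.SmoothT2
import Groth.Agent.Lib.Helper97.CotT2.ExtOne
import Groth.Agent.Lib.Helper94.CILocal

/-!
# `T²(P, B) = Ext¹(I/I², B)` for reduced algebras presented over a regular polynomial ring
-/

set_option autoImplicit false

namespace Groth.Agent.Lib.Helper97.CotT2

open TensorProduct IsLocalRing

noncomputable section

section LocalC1

variable {R : Type*} [CommRing R] {σ : Type*} (r : σ → R)

/-- Local triviality of relations at a prime where the ideal is generated by a weakly regular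
sequence. -/
theorem exists_smul_mem_F0_of_regular_at (m : Ideal R) [m.IsPrime]
    (rs : List (Localization.AtPrime m))
    (hrs : RingTheory.Sequence.IsWeaklyRegular (Localization.AtPrime m) rs)
    (hrsI : Ideal.ofList rs =
      (Ideal.span (Set.range r)).map (algebraMap R (Localization.AtPrime m)))
    {q : σ →₀ R} (hq : q ∈ Q r) (hI : ∀ s, q s ∈ Ideal.span (Set.range r)) :
    ∃ t : R, t ∉ m ∧ t • q ∈ F0 r := by
  let S := Localization.AtPrime m
  let r' : σ → S := fun s => algebraMap R S (r s)
  have hspan : Ideal.span (Set.range r') =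
      (Ideal.span (Set.range r)).map (algebraMap R S) := by
    rw [Ideal.map_span, ← Set.range_comp]
    rfl
  have hq' : locMap (σ := σ) S q ∈ Q r' := by
    rw [mem_Q, locMap_apply, jm_mapRange r (algebraMap R S) q, (mem_Q r).mp hq, map_zero]
  have hI' : ∀ s, locMap (σ := σ) S q s ∈ Ideal.span (Set.range r') := by
    intro s
    rw [hspan]
    exact Ideal.mem_map_of_mem _ (hI s)
  have hmem : locMap (σ := σ) S q ∈ F0 r' :=
    mem_F0_of_isWeaklyRegular r' rs hrs (hrsI.trans hspan.symm) hq' hI'
  obtain ⟨n, hn, t, hnt⟩ := F0_map_le_localized' r S m.primeCompl hmem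
  rw [IsLocalizedModule.mk'_eq_iff, Submonoid.smul_def, ← map_smul, ← sub_eq_zero, ← map_sub,
    IsLocalizedModule.eq_zero_iff m.primeCompl] at hnt
  obtain ⟨c, hc⟩ := hnt
  refine ⟨(c : R) * (t : R), (c * t).2, ?_⟩
  rw [Submonoid.smul_def, smul_sub, sub_eq_zero] at hc
  rw [mul_smul, ← hc]
  exact Submodule.smul_mem _ _ hn

end LocalC1

section RegMin

universe u

/-- In a regular ring, a radical ideal is generated by a regular sequence locally at each of its
minimal primes. -/
theorem isRegularIdeal_map_of_mem_minimalPrimes (R : Type u) [CommRing R] [IsRegularRing R]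
    (I : Ideal R) (hI : I.IsRadical) (m : Ideal R) [m.IsPrime] (hm : m ∈ I.minimalPrimes) :
    CInt.IsRegularIdeal (I.map (algebraMap R (Localization.AtPrime m))) := by
  let A := Localization.AtPrime m
  let J : Ideal A := I.map (algebraMap R A)
  have hJrad : J.radical = maximalIdeal A := by
    rw [IsLocalization.AtPrime.radical_map_of_mem_minimalPrimes (A := A) m I hm,
      Localization.AtPrime.map_eq_maximalIdeal]
  have hJ : J = maximalIdeal A := by
    rw [← hJrad]
    change I.map (algebraMap R A) = (I.map (algebraMap R A)).radical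
    rw [← IsLocalization.map_radical m.primeCompl A I, hI.radical]
  have hJmax : J.IsMaximal := hJ ▸ IsLocalRing.maximalIdeal.isMaximal A
  let _ : Field (A ⧸ J) := Ideal.Quotient.field J
  have hAJ : IsRegularLocalRing (A ⧸ J) := inferInstance
  refine (Groth.Agent.Lib.Helper94.CILocal.isRegularIdeal_iff_quotient A J J le_rfl hJ.le hAJ).mpr ?_
  refine ⟨[], RingTheory.Sequence.IsRegular.nil _ _, ?_⟩
  rw [Ideal.ofList_nil, Ideal.map_quotient_self]

end RegMin

section Reduced

universe u

variable {k B : Type u} [Field k] [CommRing B] [Algebra k B] {ι : Type*} [Finite ι] {σ : Type*}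
variable (P : Algebra.Presentation k B ι σ)

/-- For a reduced algebra presented by finitely many variables over a field, every linear form on
`L₂` kills the kernel of `d₂`. -/
theorem apply_eq_zero_of_mem_ker_d2 [IsReduced B] (g : CotT.L2 P →ₗ[B] B) (x : CotT.L2 P)
    (hx : CotT.d2 P x = 0) : g x = 0 := by
  have hReg : IsRegularRing P.toExtension.Ring :=
    inferInstanceAs (IsRegularRing (MvPolynomial ι k))
  let I : Ideal P.toExtension.Ring := Ideal.span (Set.range (CotT.rel P))
  have hIker : I = RingHom.ker (algebraMap P.toExtension.Ring B) := (ker_eq_span_rel P).symm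
  have hsurj : Function.Surjective (algebraMap P.toExtension.Ring B) :=
    P.toExtension.algebraMap_surjective
  have hIrad : I.IsRadical := by
    rw [hIker]
    exact (RingHom.ker_isRadical_iff_reduced_of_surjective hsurj).mpr inferInstance
  obtain ⟨q, rfl⟩ := cls_surjective P x
  rw [cls, CotT.d2_mk_tmul, one_tmul_eq_zero_iff] at hx
  have hqI : ∀ s, (q : CotT.relMod P) s ∈ I := fun s => by
    rw [hIker]
    exact hx s
  -- it suffices to show membership in every minimal prime
  have hmem : g (cls P q) ∈ nilradical B := by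
    rw [nilradical, ← Ideal.sInf_minimalPrimes]
    refine Ideal.mem_sInf.mpr fun {p} hp => ?_
    have hpp : p.IsPrime := hp.1.1
    let m : Ideal P.toExtension.Ring := p.comap (algebraMap P.toExtension.Ring B)
    have hm : m ∈ I.minimalPrimes := by
      have := Ideal.minimalPrimes_comap_of_surjective hsurj hp
      rwa [Ideal.zero_eq_bot, ← RingHom.ker_eq_comap_bot, ← hIker] at this
    obtain ⟨rs, hrs, hrsI⟩ := isRegularIdeal_map_of_mem_minimalPrimes P.toExtension.Ring I hIrad m hm
    obtain ⟨t, htm, htq⟩ := exists_smul_mem_F0_of_regular_at (CotT.rel P) m rs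
      hrs.toIsWeaklyRegular hrsI q.2 hqI
    have h1 : cls P (t • q) = 0 := cls_eq_zero P (t • q) htq
    rw [cls_smul] at h1
    have h2 : algebraMap P.toExtension.Ring B t * g (cls P q) = 0 := by
      rw [← smul_eq_mul, ← map_smul, h1, map_zero]
    have h3 : algebraMap P.toExtension.Ring B t * g (cls P q) ∈ p := h2 ▸ p.zero_mem
    exact (hpp.mem_or_mem h3).resolve_left htm
  rwa [nilradical_eq_zero, Ideal.zero_eq_bot, Ideal.mem_bot] at hmem

end Reduced

section Quot

variable {A : Type*} {B : Type*} {ι σ : Type*} [CommRing A] [CommRing B] [Algebra A B]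
variable (P : Algebra.Presentation A B ι σ) (M : Type*) [AddCommGroup M] [Module B M]

/-- If every map `L₂ → M` kills the kernel of `d₂`, then `T²(P, M)` is the cokernel of the
restriction `Hom(L₁, M) → Hom(K, M)`, `K = ker (L₁ → I/I²)`. -/
theorem nonempty_T2_equiv_quot
    (H : ∀ (g : CotT.L2 P →ₗ[B] M) (x : CotT.L2 P), CotT.d2 P x = 0 → g x = 0) :
    Nonempty (CotT.T2 P M ≃ₗ[B]
      ((LinearMap.ker (CotT.toCot P) →ₗ[B] M) ⧸
        LinearMap.range (LinearMap.lcomp B M (LinearMap.ker (CotT.toCot P)).subtype))) := by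
  let K := LinearMap.ker (CotT.toCot P)
  let d2' : CotT.L2 P →ₗ[B] K := LinearMap.codRestrict K (CotT.d2 P) (fun x => by
    change CotT.toCot P (CotT.d2 P x) = 0
    rw [← LinearMap.comp_apply, CotT.toCot_comp_d2, LinearMap.zero_apply])
  have hd2'sub : ∀ x, ((d2' x : K) : CotT.L1 P) = CotT.d2 P x := fun x => rfl
  have hd2'surj : Function.Surjective d2' := by
    intro y
    obtain ⟨x, hx⟩ := Groth.Agent.S12289.ker_toCot_le_range_d2 P y.2
    exact ⟨x, Subtype.ext hx⟩
  let Φ : (K →ₗ[B] M) →ₗ[B] CotT.T2 P M :=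
    (LinearMap.range (CotT.d2Star P M)).mkQ ∘ₗ LinearMap.lcomp B M d2'
  have hΦ : ∀ χ : K →ₗ[B] M, Φ χ = Submodule.Quotient.mk (χ ∘ₗ d2') := fun χ => rfl
  have hΦsurj : Function.Surjective Φ := by
    intro y
    induction y using Submodule.Quotient.induction_on with
    | H g =>
      have hker : LinearMap.ker d2' ≤ LinearMap.ker g := by
        intro x hx
        rw [LinearMap.mem_ker] at hx ⊢
        have h1 : CotT.d2 P x = 0 := by rw [← hd2'sub, hx]; rfl
        exact H g x h1
      obtain ⟨χ, hχ⟩ := Groth.Agent.S12289.exists_factor (M := CotT.L2 P) (N := K) (Q := M) d2' hd2'surj g hker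
      exact ⟨χ, by rw [hΦ, hχ]⟩
  have hΦker : LinearMap.ker Φ = LinearMap.range (LinearMap.lcomp B M K.subtype) := by
    ext χ
    rw [LinearMap.mem_ker, hΦ, Submodule.Quotient.mk_eq_zero, LinearMap.mem_range,
      LinearMap.mem_range]
    constructor
    · rintro ⟨φ, hφ⟩
      refine ⟨φ, ?_⟩
      ext y
      obtain ⟨x, rfl⟩ := hd2'surj y
      have := LinearMap.congr_fun hφ x
      simp only [CotT.d2Star_apply, LinearMap.comp_apply] at this
      simp only [LinearMap.lcomp_apply, Submodule.subtype_apply, hd2'sub]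
      exact this
    · rintro ⟨φ, rfl⟩
      refine ⟨φ, ?_⟩
      ext x
      simp only [CotT.d2Star_apply, LinearMap.comp_apply, LinearMap.lcomp_apply,
        Submodule.subtype_apply, hd2'sub]
  exact ⟨((Submodule.quotEquivOfEq _ _ hΦker.symm).trans
    (LinearMap.quotKerEquivOfSurjective Φ hΦsurj)).symm⟩

end Quot

section Main

universe u

variable {k B : Type u} [Field k] [CommRing B] [Algebra k B] {ι : Type u} [Finite ι] {σ : Type u}
variable (P : Algebra.Presentation k B ι σ)

theorem nonempty_T2_equiv_ext_one [IsReduced B] :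
    Nonempty (CotT.T2 P B ≃ₗ[B]
      CategoryTheory.Abelian.Ext (ModuleCat.of B P.toExtension.Cotangent) (ModuleCat.of B B) 1) := by
  obtain ⟨e1⟩ := nonempty_T2_equiv_quot P B (apply_eq_zero_of_mem_ker_d2 P)
  have hfree : Module.Free B (CotT.L1 P) := Module.Free.of_basis (CotT.L1basis P)
  obtain ⟨e2⟩ := nonempty_ext_one_equiv B (CotT.toCot P) (Groth.Agent.S12289.toCot_surjective P)
  exact ⟨e1.trans e2⟩

end Main

end

end Groth.Agent.Lib.Helper97.CotT2
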